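import Cfsg.Agent.Lib.Helper62.Bar
import Cfsg.Agent.Lib.Helper62.Basic
import Cfsg.Agent.Lib.Helper24.PGroup
import Cfsg.Agent.S0012
import Cfsg.Agent.S0013
import Cfsg.Agent.S0055

/-!
# Coprime action on sections; the Frattini subgroup of a `p`-subgroup in ambient terms
-/

set_option autoImplicit false

namespace Cfsg.Agent.Lib.Helper62

open Cfsg.Agent.Lib.Helper24

variable {X : Type*} [Group X]

/-- The ambient description of the Frattini subgroup of a `p`-subgroup `P`: `P' P^p`. -/
def frat (p : ℕ) (P : Subgroup X) : Subgroup X :=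
  ⁅P, P⁆ ⊔ Subgroup.closure ((fun x => x ^ p) '' (P : Set X))

theorem commutator_le_frat (p : ℕ) (P : Subgroup X) : ⁅P, P⁆ ≤ frat p P := le_sup_left

theorem pow_mem_frat (p : ℕ) {P : Subgroup X} {x : X} (hx : x ∈ P) : x ^ p ∈ frat p P :=
  (le_sup_right : _ ≤ frat p P) (Subgroup.subset_closure ⟨x, hx, rfl⟩)

theorem frat_le_of {p : ℕ} {P N : Subgroup X} (h1 : ⁅P, P⁆ ≤ N) (h2 : ∀ x ∈ P, x ^ p ∈ N) :
    frat p P ≤ N := by
  apply sup_le h1
  rw [Subgroup.closure_le]
  rintro _ ⟨x, hx, rfl⟩
  exact h2 x hx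

theorem frat_le (p : ℕ) (P : Subgroup X) : frat p P ≤ P :=
  frat_le_of (Subgroup.commutator_le_self P) (fun _ hx => P.pow_mem hx p)

theorem normalizer_le_normalizer_frat (p : ℕ) (P : Subgroup X) :
    Subgroup.normalizer (P : Set X) ≤ Subgroup.normalizer (frat p P : Set X) := by
  apply le_normalizer_sup
  · exact le_trans (le_inf le_rfl le_rfl) (normalizer_inf_le_normalizer_commutator P P)
  · exact normalizer_le_normalizer_closure_pow P p

theorem frat_lt [Finite X] {p : ℕ} [Fact p.Prime] {P : Subgroup X} (hP : IsPGroup p P)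
    (hne : P ≠ ⊥) : frat p P < P := by
  obtain ⟨M, -, hMP, -, -, hpow, hcomm⟩ := exists_maximal_normal p hP (bot_lt_iff_ne_bot.2 hne)
  exact lt_of_le_of_lt (frat_le_of hcomm hpow) hMP

theorem map_subtype_frattini [Finite X] {p : ℕ} [Fact p.Prime] {P : Subgroup X}
    (hP : IsPGroup p P) : (frattini ↥P).map P.subtype = frat p P := by
  obtain ⟨h1, h2⟩ := Cfsg.Agent.S0012.result p hP
  apply le_antisymm
  · have hn : ((frat p P).subgroupOf P).Normal :=
      (Subgroup.normal_subgroupOf_iff_le_normalizer (frat_le p P)).mpr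
        (Subgroup.le_normalizer.trans (normalizer_le_normalizer_frat p P))
    rw [Subgroup.map_le_iff_le_comap]
    apply Cfsg.Agent.S0013.result p hP ((frat p P).subgroupOf P)
    · rw [← Subgroup.comap_subtype, ← Subgroup.map_le_iff_le_comap,
        Subgroup.map_subtype_commutator]
      exact commutator_le_frat p P
    · intro x
      exact pow_mem_frat p x.2
  · apply frat_le_of
    · rw [← Subgroup.map_subtype_commutator]
      exact Subgroup.map_mono h1
    · intro x hx
      exact ⟨⟨x, hx⟩ ^ p, h2 ⟨x, hx⟩, rfl⟩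

/-- If `A` acts coprimely on `P = [P, A]` and `N` is a `PA`-invariant subgroup with `P' ≤ N`
then `C_P(A) ≤ N`. -/
theorem inf_centralizer_le_of_commutator_eq [Finite X] (A P N : Subgroup X)
    (hAP : A ≤ Subgroup.normalizer (P : Set X)) (hcop : (Nat.card A).Coprime (Nat.card P))
    (hPN : P ≤ Subgroup.normalizer (N : Set X)) (hAN : A ≤ Subgroup.normalizer (N : Set X))
    (hder : ⁅P, P⁆ ≤ N) (hPA : ⁅P, A⁆ = P) : P ⊓ Subgroup.centralizer (A : Set X) ≤ N := by
  have hcomm := isMulCommutative_bar hPN hder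
  have h1 := (Cfsg.Agent.S0055.result (bar N A) (bar N P) (bar_le_normalizer hAP)
    (Nat.Coprime.of_dvd (card_bar_dvd N A) (card_bar_dvd N P) hcop)).1
  rw [← bar_commutator hPN hAN, hPA, inf_right_comm, inf_idem] at h1
  rw [← bar_eq_bot_iff (inf_le_left.trans hPN), eq_bot_iff, ← h1]
  exact le_inf (bar_mono inf_le_left) (bar_le_centralizer inf_le_right)

end Cfsg.Agent.Lib.Helper62
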