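import Mathlib
import Cfsg.Agent.Lib.Helper5.Quaternion
import Cfsg.Agent.Lib.Helper5.LinearCard
import Cfsg.Agent.Lib.Helper66.DihedralStem

/-!
# Recognition of `SL(2,3)` as `Q₈ ⋊ C₃`
-/

set_option autoImplicit false

namespace Cfsg.Agent.Lib.Helper62

open QuaternionGroup

theorem pow_zmod_val_add {M : Type*} [Monoid M] {n : ℕ} [NeZero n] (a : M) (h : a ^ n = 1)
    (i j : ZMod n) : a ^ (i + j).val = a ^ i.val * a ^ j.val := by
  rw [ZMod.val_add, ← pow_eq_pow_mod _ h, pow_add]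

/-- The homomorphism from the cyclic group of order `n` determined by an element with `a ^ n = 1`. -/
def zmodPowHom {M : Type*} [Monoid M] (n : ℕ) [NeZero n] (a : M) (h : a ^ n = 1) :
    Multiplicative (ZMod n) →* M where
  toFun m := a ^ (Multiplicative.toAdd m).val
  map_one' := by simp
  map_mul' := fun x y => pow_zmod_val_add a h _ _

theorem zmodPowHom_apply {M : Type*} [Monoid M] (n : ℕ) [NeZero n] (a : M) (h : a ^ n = 1)
    (m : Multiplicative (ZMod n)) : zmodPowHom n a h m = a ^ (Multiplicative.toAdd m).val := rfl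

/-- The endomorphism `i ↦ j ↦ ij` of `Q₈`. -/
def q8Hom : QuaternionGroup 2 →* QuaternionGroup 2 :=
  Helper5.quaternionLift (xa 0) (xa 3) (by decide) (by decide) (by decide)

theorem q8Hom_bijective : Function.Bijective q8Hom := by decide

/-- The automorphism `i ↦ j ↦ ij` of order three of `Q₈`. -/
noncomputable def q8Aut : MulAut (QuaternionGroup 2) := MulEquiv.ofBijective q8Hom q8Hom_bijective

theorem q8Aut_apply (x : QuaternionGroup 2) : q8Aut x = q8Hom x := rfl

theorem q8Hom_cube : ∀ x, q8Hom (q8Hom (q8Hom x)) = x := by decide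

theorem q8Aut_cube : q8Aut ^ 3 = 1 := by
  ext x
  exact q8Hom_cube x

/-- The model `Q₈ ⋊ C₃` of `SL(2,3)`. -/
abbrev Q8C3 : Type := QuaternionGroup 2 ⋊[zmodPowHom 3 q8Aut q8Aut_cube] Multiplicative (ZMod 3)

theorem card_Q8C3 : Nat.card Q8C3 = 24 := by
  rw [SemidirectProduct.card, Nat.card_eq_fintype_card, QuaternionGroup.card, Nat.card_eq_fintype_card]
  simp [ZMod.card]

section lift

variable {X : Type*} [Group X]

/-- The relations satisfied by an element `i` of order four and an element `g` of order three generating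
`SL(2,3)`. -/
structure SL23Data (i g : X) : Prop where
  order : orderOf i = 4
  cube : g ^ 3 = 1
  sq : (g * i * g⁻¹) ^ 2 = i ^ 2
  inv : (g * i * g⁻¹)⁻¹ * i * (g * i * g⁻¹) = i⁻¹
  nmem : g * i * g⁻¹ ∉ Subgroup.zpowers i
  conj : g * (g * i * g⁻¹) * g⁻¹ = i * (g * i * g⁻¹)

namespace SL23Data

variable {i g : X} (h : SL23Data i g)

include h in
theorem order' : orderOf i = 2 * 2 := h.order

/-- the embedding of `Q₈` -/
def f₁ : QuaternionGroup 2 →* X :=
  Helper5.quaternionLift i (g * i * g⁻¹) (h.order' ▸ pow_orderOf_eq_one i) h.sq h.inv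

theorem f₁_injective : Function.Injective h.f₁ :=
  Helper5.quaternionLift_injective i (g * i * g⁻¹) h.order' h.sq h.inv h.nmem

theorem f₁_a_one : h.f₁ (a 1) = i := by
  change i ^ (1 : ZMod (2 * 2)).val = i
  have : (1 : ZMod (2 * 2)).val = 1 := rfl
  rw [this, pow_one]

theorem f₁_xa_zero : h.f₁ (xa 0) = g * i * g⁻¹ := by
  change g * i * g⁻¹ * i ^ (0 : ZMod (2 * 2)).val = g * i * g⁻¹
  have : (0 : ZMod (2 * 2)).val = 0 := rfl
  rw [this, pow_zero, mul_one]

theorem f₁_xa_three : h.f₁ (xa 3) = i * (g * i * g⁻¹) := by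
  change g * i * g⁻¹ * i ^ (3 : ZMod (2 * 2)).val = i * (g * i * g⁻¹)
  have : (3 : ZMod (2 * 2)).val = 3 := rfl
  rw [this]
  have h4 : i ^ 4 = 1 := h.order ▸ pow_orderOf_eq_one i
  have h3 : i ^ 3 = i⁻¹ := by
    rw [eq_inv_iff_mul_eq_one, ← pow_succ]; exact h4
  rw [h3, ← h.inv]
  group

theorem f₁_q8Hom (x : QuaternionGroup 2) : h.f₁ (q8Hom x) = g * h.f₁ x * g⁻¹ := by
  have key : h.f₁.comp q8Hom = (MulAut.conj g).toMonoidHom.comp h.f₁ := by
    apply MonoidHom.eq_of_eqOn_dense (Helper66.quaternion_closure 2)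
    intro y hy
    rcases hy with rfl | rfl
    · change h.f₁ (q8Hom (a 1)) = g * h.f₁ (a 1) * g⁻¹
      have : q8Hom (a 1) = xa 0 := by decide
      rw [this, f₁_a_one, f₁_xa_zero]
    · change h.f₁ (q8Hom (xa 0)) = g * h.f₁ (xa 0) * g⁻¹
      have : q8Hom (xa 0) = xa 3 := by decide
      rw [this, f₁_xa_three, f₁_xa_zero, h.conj]
  exact DFunLike.congr_fun key x

theorem f₁_q8Aut_pow (k : ℕ) (x : QuaternionGroup 2) :
    h.f₁ ((q8Aut ^ k) x) = g ^ k * h.f₁ x * (g ^ k)⁻¹ := by
  induction k generalizing x with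
  | zero => simp
  | succ k ih =>
    rw [pow_succ, MulAut.mul_apply, ih, q8Aut_apply, f₁_q8Hom, pow_succ]
    group

/-- the homomorphism from the model -/
noncomputable def lift : Q8C3 →* X :=
  SemidirectProduct.lift h.f₁ (zmodPowHom 3 g h.cube) (by
    intro m
    ext x
    exact h.f₁_q8Aut_pow _ x)

theorem lift_apply (x : Q8C3) :
    h.lift x = h.f₁ x.left * g ^ (Multiplicative.toAdd x.right).val := rfl

include h in
theorem g_ne_one : g ≠ 1 := by
  intro h1
  apply h.nmem
  rw [h1]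
  simp

theorem lift_injective : Function.Injective h.lift := by
  rw [injective_iff_map_eq_one]
  intro x hx
  rw [lift_apply] at hx
  obtain ⟨k, hk⟩ : ∃ k, k = (Multiplicative.toAdd x.right).val := ⟨_, rfl⟩
  rw [← hk] at hx
  have h1 : g ^ k = h.f₁ (x.left)⁻¹ := by
    rw [map_inv]; exact eq_inv_of_mul_eq_one_right hx
  have h8 : (g ^ k) ^ 8 = 1 := by
    rw [h1, ← map_pow]
    have : ∀ y : QuaternionGroup 2, y ^ 8 = 1 := by decide
    rw [this, map_one]
  have h3 : (g ^ k) ^ 3 = 1 := by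
    rw [← pow_mul, mul_comm, pow_mul, h.cube, one_pow]
  have hgk : g ^ k = 1 := by
    calc g ^ k = ((g ^ k) ^ 3) ^ 3 * ((g ^ k) ^ 8)⁻¹ := by group
      _ = 1 := by rw [h3, h8]; simp
  have hk3 : k < 3 := by rw [hk]; exact ZMod.val_lt _
  have hk0 : k = 0 := by
    have ho : orderOf g = 3 := orderOf_eq_prime h.cube h.g_ne_one
    have := orderOf_dvd_of_pow_eq_one hgk
    rw [ho] at this
    exact Nat.eq_zero_of_dvd_of_lt this hk3
  have hr : x.right = 1 := by
    rw [hk0] at hk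
    have := (ZMod.val_eq_zero _).1 hk.symm
    exact this
  have hl : x.left = 1 := by
    rw [hk0, pow_zero, mul_one] at hx
    exact (injective_iff_map_eq_one h.f₁).1 h.f₁_injective _ hx
  exact SemidirectProduct.ext hl hr

theorem mem_range_lift_i : i ∈ h.lift.range :=
  ⟨SemidirectProduct.inl (a 1), by rw [lift, SemidirectProduct.lift_inl, f₁_a_one]⟩

theorem mem_range_lift_g : g ∈ h.lift.range :=
  ⟨SemidirectProduct.inr (Multiplicative.ofAdd 1), by
    rw [lift, SemidirectProduct.lift_inr, zmodPowHom_apply]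
    have : (Multiplicative.toAdd (Multiplicative.ofAdd (1 : ZMod 3))).val = 1 := rfl
    rw [this, pow_one]⟩

include h in
theorem nonempty_equiv_of_card (hc : Nat.card X = 24) : Nonempty (Q8C3 ≃* X) := by
  have hfin : Finite X := Nat.finite_of_card_ne_zero (by rw [hc]; norm_num)
  have hbij : Function.Bijective h.lift := by
    rw [Nat.bijective_iff_injective_and_card]
    exact ⟨h.lift_injective, by rw [hc, card_Q8C3]⟩
  exact ⟨MulEquiv.ofBijective _ hbij⟩

include h in
theorem nonempty_equiv_of_closure (hc : Subgroup.closure {i, g} = ⊤) : Nonempty (Q8C3 ≃* X) := by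
  have hsurj : Function.Surjective h.lift := by
    rw [← MonoidHom.range_eq_top, eq_top_iff, ← hc, Subgroup.closure_le]
    rintro y (rfl | rfl)
    · exact h.mem_range_lift_i
    · exact h.mem_range_lift_g
  exact ⟨MulEquiv.ofBijective _ ⟨h.lift_injective, hsurj⟩⟩

end SL23Data

end lift


theorem SL23Data.of_rel {X : Type*} [Group X] {i g : X} (order : orderOf i = 4) (cube : g ^ 3 = 1)
    (sq : (g * i * g⁻¹) ^ 2 = i ^ 2) (inv : (g * i * g⁻¹)⁻¹ * i * (g * i * g⁻¹) = i⁻¹)
    (conj : g * (g * i * g⁻¹) * g⁻¹ = i * (g * i * g⁻¹)) : SL23Data i g := by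
  refine ⟨order, cube, sq, inv, ?_, conj⟩
  intro hmem
  obtain ⟨k, hk⟩ := hmem
  have hk' : i ^ k = g * i * g⁻¹ := hk
  rw [← hk'] at inv
  have h1 : (i ^ k)⁻¹ * i * i ^ k = i := by
    have : Commute i (i ^ k) := (Commute.refl i).zpow_right k
    rw [mul_assoc, this.eq, ← mul_assoc, inv_mul_cancel, one_mul]
  rw [h1] at inv
  have h2 : i ^ 2 = 1 := by
    rw [pow_two, mul_eq_one_iff_eq_inv]
    exact inv
  have h3 := orderOf_dvd_of_pow_eq_one h2
  rw [order] at h3
  omega

/-- an element of order four of `SL(2,3)` -/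
def sl23i : Matrix.SpecialLinearGroup (Fin 2) (ZMod 3) := ⟨!![0, 1; -1, 0], by decide⟩

/-- an element of order three of `SL(2,3)` -/
def sl23g : Matrix.SpecialLinearGroup (Fin 2) (ZMod 3) := ⟨!![0, 1; -1, -1], by decide⟩

theorem sl23_data : SL23Data sl23i sl23g := by
  apply SL23Data.of_rel
  · have : (4 : ℕ) = 2 ^ (1 + 1) := rfl
    rw [this]
    apply orderOf_eq_prime_pow
    · decide
    · decide
  · decide
  · decide
  · decide
  · decide

theorem card_SL23 : Nat.card (Matrix.SpecialLinearGroup (Fin 2) (ZMod 3)) = 24 := by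
  rw [Helper5.card_SL2, ZMod.card]; rfl

/-- `SL(2,3)` is isomorphic to the model `Q₈ ⋊ C₃`. -/
theorem nonempty_Q8C3_equiv_SL23 : Nonempty (Q8C3 ≃* Matrix.SpecialLinearGroup (Fin 2) (ZMod 3)) :=
  sl23_data.nonempty_equiv_of_card card_SL23

theorem SL23Data.nonempty_equiv_SL23_of_card {X : Type*} [Group X] {i g : X} (h : SL23Data i g)
    (hc : Nat.card X = 24) : Nonempty (X ≃* Matrix.SpecialLinearGroup (Fin 2) (ZMod 3)) := by
  obtain ⟨e⟩ := h.nonempty_equiv_of_card hc
  obtain ⟨e'⟩ := nonempty_Q8C3_equiv_SL23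
  exact ⟨e.symm.trans e'⟩

theorem SL23Data.nonempty_equiv_SL23_of_closure {X : Type*} [Group X] {i g : X} (h : SL23Data i g)
    (hc : Subgroup.closure {i, g} = ⊤) : Nonempty (X ≃* Matrix.SpecialLinearGroup (Fin 2) (ZMod 3)) := by
  obtain ⟨e⟩ := h.nonempty_equiv_of_closure hc
  obtain ⟨e'⟩ := nonempty_Q8C3_equiv_SL23
  exact ⟨e.symm.trans e'⟩

end Cfsg.Agent.Lib.Helper62
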