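import Mathlib
import Cfsg.Agent.Lib.Helper62.SL23
import Cfsg.Agent.Lib.Helper20.Fus2

/-!
# Recognition of `SL(2,3)`: a quaternion group of order 8 extended by an element of order 3
-/

set_option autoImplicit false

namespace Cfsg.Agent.Lib.Helper62

open QuaternionGroup

set_option maxRecDepth 100000 in
theorem q8_pair : ∀ u v : QuaternionGroup 2, u * u ≠ 1 → v * v ≠ 1 → v ≠ u → v ≠ u⁻¹ →
    u ^ 4 = 1 ∧ v ^ 2 = u ^ 2 ∧ v⁻¹ * u * v = u⁻¹ ∧ u⁻¹ * v⁻¹ = u * v ∧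
      ∀ x, ∃ k : Fin 4, x = u ^ k.val ∨ x = v * u ^ k.val := by
  decide

variable {X : Type*} [Group X]

theorem sl23Data_of_q8_aux {Q : Subgroup X} (e : Q ≃* QuaternionGroup 2) {g : X}
    (hgN : g ∈ Subgroup.normalizer (Q : Set X)) (hgC : g ∉ Subgroup.centralizer (Q : Set X))
    (hg : g ^ 3 = 1) {i : X} (hi : i ∈ Q) (hi1 : i * i ≠ 1) :
    (g * (g * i * g⁻¹) * g⁻¹ = i * (g * i * g⁻¹) → SL23Data i g ∧ Q ≤ Subgroup.closure {i, g}) ∧
      i⁻¹ * (g * i * g⁻¹)⁻¹ = i * (g * i * g⁻¹) := by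
  have hj : g * i * g⁻¹ ∈ Q := Helper20.Fus.conj_mem_of_mem_normalizer hgN hi
  obtain ⟨hne1, hne2⟩ := Helper20.Fus.q8_no_fixed e hgN hgC (m := 3) (by decide) hg hi hi1
  have hinj : ∀ {x y : Q}, e x = e y ↔ x = y := e.injective.eq_iff
  obtain ⟨h1, h2, h3, h4, h5⟩ := q8_pair (e ⟨i, hi⟩) (e ⟨_, hj⟩)
    (by
      rw [← map_mul, Ne, ← map_one e, hinj]
      intro h; exact hi1 (congrArg Subtype.val h))
    (by
      rw [← map_mul, Ne, ← map_one e, hinj]
      intro h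
      have h' : g * i * g⁻¹ * (g * i * g⁻¹) = 1 := congrArg Subtype.val h
      apply hi1
      have : g * (i * i) * g⁻¹ = 1 := by rw [← h']; group
      rwa [conj_eq_one_iff] at this)
    (by
      rw [Ne, hinj]
      intro h; exact hne1 (congrArg Subtype.val h))
    (by
      rw [← map_inv, Ne, hinj]
      intro h; exact hne2 (congrArg Subtype.val h))
  rw [← map_pow, ← map_one e, hinj] at h1
  rw [← map_pow, ← map_pow, hinj] at h2
  rw [← map_inv, ← map_inv, ← map_mul, ← map_mul, hinj] at h3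
  rw [← map_inv, ← map_inv, ← map_mul, ← map_mul, hinj] at h4
  have h1' : i ^ 4 = 1 := congrArg Subtype.val h1
  have h2' : (g * i * g⁻¹) ^ 2 = i ^ 2 := congrArg Subtype.val h2
  have h3' : (g * i * g⁻¹)⁻¹ * i * (g * i * g⁻¹) = i⁻¹ := congrArg Subtype.val h3
  have h4' : i⁻¹ * (g * i * g⁻¹)⁻¹ = i * (g * i * g⁻¹) := congrArg Subtype.val h4
  refine ⟨fun hc => ⟨SL23Data.of_rel ?_ hg h2' h3' hc, ?_⟩, h4'⟩
  · have : (4 : ℕ) = 2 ^ (1 + 1) := rfl
    rw [this]
    apply orderOf_eq_prime_pow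
    · rw [pow_one, pow_two]; exact hi1
    · exact h1'
  · intro x hx
    have hic : i ∈ Subgroup.closure ({i, g} : Set X) := Subgroup.subset_closure (by simp)
    have hgc : g ∈ Subgroup.closure ({i, g} : Set X) := Subgroup.subset_closure (by simp)
    obtain ⟨k, hk⟩ := h5 (e ⟨x, hx⟩)
    rw [← map_pow, ← map_mul, hinj, hinj] at hk
    rcases hk with hk | hk
    · have : x = i ^ k.val := congrArg Subtype.val hk
      rw [this]
      exact Subgroup.pow_mem _ hic _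
    · have : x = g * i * g⁻¹ * i ^ k.val := congrArg Subtype.val hk
      rw [this]
      exact Subgroup.mul_mem _ (Subgroup.mul_mem _ (Subgroup.mul_mem _ hgc hic) (Subgroup.inv_mem _ hgc))
        (Subgroup.pow_mem _ hic _)

/-- If `g` of order three normalizes but does not centralize the quaternion group `Q` of order eight then
`Q` and `g` satisfy the relations of `SL(2,3)`. -/
theorem exists_sl23Data_of_q8 {Q : Subgroup X} (e : Q ≃* QuaternionGroup 2) {g : X}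
    (hgN : g ∈ Subgroup.normalizer (Q : Set X)) (hgC : g ∉ Subgroup.centralizer (Q : Set X))
    (hg : g ^ 3 = 1) : ∃ i ∈ Q, SL23Data i g ∧ Q ≤ Subgroup.closure {i, g} := by
  obtain ⟨i, hi, hi1⟩ : ∃ i ∈ Q, i * i ≠ 1 := by
    refine ⟨(e.symm (a 1) : Q), (e.symm (a 1)).2, ?_⟩
    intro h
    have h' : e.symm (a 1) * e.symm (a 1) = 1 := Subtype.ext h
    rw [← map_mul, ← map_one e.symm, e.symm.injective.eq_iff] at h'
    revert h'
    decide
  rcases Helper20.Fus.q8_three_cycle e hgN hgC (m := 3) (by decide) hg hi hi1 with h | h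
  · exact ⟨i, hi, (sl23Data_of_q8_aux e hgN hgC hg hi hi1).1 h.symm⟩
  · have hi1' : i⁻¹ * i⁻¹ ≠ 1 := by
      intro h'
      apply hi1
      have : (i * i)⁻¹ = 1 := by rw [mul_inv_rev]; exact h'
      rwa [inv_eq_one] at this
    refine ⟨i⁻¹, Q.inv_mem hi, (sl23Data_of_q8_aux e hgN hgC hg (Q.inv_mem hi) hi1').1 ?_⟩
    have h4 := (sl23Data_of_q8_aux e hgN hgC hg hi hi1).2
    have e1 : g * i⁻¹ * g⁻¹ = (g * i * g⁻¹)⁻¹ := by group
    have e2 : g * (g * i * g⁻¹)⁻¹ * g⁻¹ = (g * (g * i * g⁻¹) * g⁻¹)⁻¹ := by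
      simp only [mul_inv_rev, inv_inv, mul_assoc]
    rw [e1, e2, h4, h]

/-- Recognition of `SL(2,3)`. -/
theorem nonempty_equiv_SL23_of_q8 {Q : Subgroup X} (e : Q ≃* QuaternionGroup 2) {g : X}
    (hgN : g ∈ Subgroup.normalizer (Q : Set X)) (hgC : g ∉ Subgroup.centralizer (Q : Set X))
    (hg : g ^ 3 = 1) (htop : Q ⊔ Subgroup.zpowers g = ⊤) :
    Nonempty (X ≃* Matrix.SpecialLinearGroup (Fin 2) (ZMod 3)) := by
  obtain ⟨i, hi, hd, hle⟩ := exists_sl23Data_of_q8 e hgN hgC hg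
  apply hd.nonempty_equiv_SL23_of_closure
  rw [eq_top_iff, ← htop, sup_le_iff]
  refine ⟨hle, ?_⟩
  rw [Subgroup.zpowers_le]
  exact Subgroup.subset_closure (by simp)

end Cfsg.Agent.Lib.Helper62
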