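import Mathlib
import Cfsg.Agent.Lib.Helper62.SL23b
import Cfsg.Agent.Lib.Helper55.QuatSylow

/-!
# Odd order automorphisms of (generalized) quaternion groups, and `SL(2,3)` sections
-/

set_option autoImplicit false

namespace Cfsg.Agent.Lib.Helper62

open QuaternionGroup

set_option maxRecDepth 100000 in
set_option synthInstance.maxHeartbeats 400000 in
set_option synthInstance.maxSize 1024 in
theorem qf_cube : ∀ α β : QuaternionGroup 2, α * α ≠ 1 → β * β ≠ 1 → β ≠ α → β ≠ α⁻¹ →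
    (∀ w : QuaternionGroup 2, w * w ≠ 1 → (Helper20.Fus.qf α β w ≠ w ∧ Helper20.Fus.qf α β w ≠ w⁻¹)) →
    ∀ x, Helper20.Fus.qf α β (Helper20.Fus.qf α β (Helper20.Fus.qf α β x)) = x := by
  decide

theorem aut_cube (φ : QuaternionGroup 2 ≃* QuaternionGroup 2)
    (h : ∀ w : QuaternionGroup 2, w * w ≠ 1 → (φ w ≠ w ∧ φ w ≠ w⁻¹)) (x : QuaternionGroup 2) :
    φ (φ (φ x)) = x := by
  obtain ⟨h1, h2, h3, h4⟩ := Helper20.Fus.aut_valid φ
  have := qf_cube _ _ h1 h2 h3 h4 (by intro w hw; rw [← Helper20.Fus.aut_eq_qf]; exact h w hw) x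
  simpa only [← Helper20.Fus.aut_eq_qf] using this

variable {X : Type*} [Group X]

/-- The cube of an element of odd order normalizing a quaternion group of order eight centralizes it. -/
theorem cube_mem_centralizer_of_q8 {Q : Subgroup X} (e : Q ≃* QuaternionGroup 2) {g : X}
    (hgN : g ∈ Subgroup.normalizer (Q : Set X)) {m : ℕ} (hm : Odd m) (hg : g ^ m = 1) :
    g ^ 3 ∈ Subgroup.centralizer (Q : Set X) := by
  by_cases hgC : g ∈ Subgroup.centralizer (Q : Set X)
  · exact Subgroup.pow_mem _ hgC 3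
  rw [Subgroup.mem_centralizer_iff]
  intro x hx
  have h1 := aut_cube (Helper20.Fus.autOf e hgN) (by
    intro w hw
    obtain ⟨⟨w', hw'⟩, rfl⟩ := e.surjective w
    have hw1 : w' * w' ≠ 1 := by
      intro h
      apply hw
      rw [← map_mul, ← map_one e]
      congr 1
      exact Subtype.ext h
    obtain ⟨h1, h2⟩ := Helper20.Fus.q8_no_fixed e hgN hgC hm hg hw' hw1
    rw [Helper20.Fus.autOf_apply, ← map_inv, Ne, Ne, e.injective.eq_iff, e.injective.eq_iff]
    exact ⟨fun h => h1 (congrArg Subtype.val h), fun h => h2 (congrArg Subtype.val h)⟩) (e ⟨x, hx⟩)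
  rw [Helper20.Fus.autOf_apply, Helper20.Fus.autOf_apply, Helper20.Fus.autOf_apply,
    e.injective.eq_iff] at h1
  have h2 : g * (g * (g * x * g⁻¹) * g⁻¹) * g⁻¹ = x := congrArg Subtype.val h1
  calc x * g ^ 3 = (g * (g * (g * x * g⁻¹) * g⁻¹) * g⁻¹) * g ^ 3 := by rw [h2]
    _ = g ^ 3 * x := by
        simp only [pow_succ, pow_zero, one_mul, mul_assoc, inv_mul_cancel_left]
        simp

/-- An element of odd order normalizing a generalized quaternion group of order at least 16 centralizes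
it. -/
theorem mem_centralizer_of_quatLike [Finite X] {S : Subgroup X} {α : X} {k : ℕ}
    (h : Helper55.QuatLike S α k) {g : X} (hgN : g ∈ Subgroup.normalizer (S : Set X))
    (hodd : Odd (orderOf g)) : g ∈ Subgroup.centralizer (S : Set X) := by
  have hβ : g * α * g⁻¹ ∈ Subgroup.zpowers α := by
    apply h.mem_zpowers_of_orderOf_ne ((Subgroup.mem_normalizer_iff.1 hgN α).1 h.mem)
    rw [Helper55.orderOf_conj_eq]; exact h.order_ne_four
  have hgNα := Helper55.mem_normalizer_zpowers_of_conj_mem α g hβ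
  have hCα : g ∈ Subgroup.centralizer (Subgroup.zpowers α : Set X) :=
    Helper55.mem_centralizer_of_odd_of_cyclic (Subgroup.zpowers α) inferInstance h.isPGroup_zpowers g
      hgNα hodd
  rw [Subgroup.mem_centralizer_iff]
  intro t ht
  by_cases htα : t ∈ Subgroup.zpowers α
  · exact (Subgroup.mem_centralizer_iff.1 hCα) t htα
  have ht' : g * t * g⁻¹ ∈ S := (Subgroup.mem_normalizer_iff.1 hgN t).1 ht
  have htα' : g * t * g⁻¹ ∉ Subgroup.zpowers α := fun h1 =>
    htα ((Subgroup.mem_normalizer_iff.1 hgNα t).2 h1)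
  obtain ⟨c, hc⟩ : ∃ c, c = t⁻¹ * (g * t * g⁻¹) := ⟨_, rfl⟩
  have hcα : c ∈ Subgroup.zpowers α := hc ▸ h.idx t ht _ ht' htα htα'
  have hcg : c * g = g * c := (Subgroup.mem_centralizer_iff.1 hCα) c hcα
  have hconj : g * t * g⁻¹ = t * c := by rw [hc]; group
  have hpow : ∀ n : ℕ, g ^ n * t * (g ^ n)⁻¹ = t * c ^ n := by
    intro n
    induction n with
    | zero => simp
    | succ n ih =>
      calc g ^ (n + 1) * t * (g ^ (n + 1))⁻¹ = g * (g ^ n * t * (g ^ n)⁻¹) * g⁻¹ := by
            rw [pow_succ']; group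
        _ = g * (t * c ^ n) * g⁻¹ := by rw [ih]
        _ = (g * t * g⁻¹) * (g * c ^ n * g⁻¹) := by group
        _ = t * c * c ^ n := by
            have : g * c ^ n * g⁻¹ = c ^ n := by
              have hcomm : Commute g c := hcg.symm
              rw [(hcomm.pow_right n).eq, mul_inv_cancel_right]
            rw [hconj, this]
        _ = t * c ^ (n + 1) := by rw [pow_succ', mul_assoc]
  have h1 := hpow (orderOf g)
  rw [pow_orderOf_eq_one, one_mul, inv_one, mul_one] at h1
  have hc1 : c ^ orderOf g = 1 := by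
    have := h1.symm
    rwa [mul_eq_left] at this
  have hc2 : ∃ j, c ^ 2 ^ j = 1 := by
    obtain ⟨j, hj⟩ := (isPGroup_iff_pow_pow_eq_one.1 h.isPGroup_zpowers) ⟨c, hcα⟩
    exact ⟨j, congrArg Subtype.val hj⟩
  obtain ⟨j, hj⟩ := hc2
  have hc3 : c = 1 := by
    have hcop : Nat.Coprime (orderOf g) (2 ^ j) :=
      Nat.Coprime.pow_right _ (Nat.coprime_two_right.2 hodd)
    have := pow_gcd_eq_one.2 ⟨hc1, hj⟩
    rwa [hcop.gcd_eq_one, pow_one] at this
  rw [hc3, mul_one] at hconj
  calc t * g = (g * t * g⁻¹) * g := by rw [hconj]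
    _ = g * t := by group

/-- If `X = Q⟨g⟩` with `Q` quaternion of order eight and `g` of odd order acting nontrivially on `Q` then
`X / ⟨g ^ 3⟩` is isomorphic to `SL(2,3)`. -/
theorem sl23_quotient {Q : Subgroup X} (e : Q ≃* QuaternionGroup 2) {g : X}
    (hgN : g ∈ Subgroup.normalizer (Q : Set X)) (hgC : g ∉ Subgroup.centralizer (Q : Set X))
    {m : ℕ} (hm : Odd m) (hg : g ^ m = 1) (htop : Q ⊔ Subgroup.zpowers g = ⊤) :
    ∃ _ : (Subgroup.zpowers (g ^ 3)).Normal,
      Nonempty (X ⧸ Subgroup.zpowers (g ^ 3) ≃* Matrix.SpecialLinearGroup (Fin 2) (ZMod 3)) := by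
  have h3 := cube_mem_centralizer_of_q8 e hgN hm hg
  have hcen : ∀ x : X, x * g ^ 3 = g ^ 3 * x := by
    have hle : Q ⊔ Subgroup.zpowers g ≤ Subgroup.centralizer ({g ^ 3} : Set X) := by
      rw [sup_le_iff]
      constructor
      · intro q hq
        rw [Subgroup.mem_centralizer_singleton_iff]
        exact (Subgroup.mem_centralizer_iff.1 h3) q hq
      · rw [Subgroup.zpowers_le, Subgroup.mem_centralizer_singleton_iff, ← pow_succ, ← pow_succ']
    intro x
    have hx : x ∈ Subgroup.centralizer ({g ^ 3} : Set X) := hle (htop ▸ Subgroup.mem_top x)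
    rw [Subgroup.mem_centralizer_singleton_iff] at hx
    exact hx
  have hN : (Subgroup.zpowers (g ^ 3)).Normal := by
    constructor
    rintro n ⟨k, rfl⟩ x
    have : Commute x (g ^ 3) := hcen x
    have h2 : x * (g ^ 3) ^ k * x⁻¹ = (g ^ 3) ^ k := by
      rw [(this.zpow_right k).eq, mul_inv_cancel_right]
    change x * (g ^ 3) ^ k * x⁻¹ ∈ _
    rw [h2]
    exact Subgroup.zpow_mem_zpowers _ _
  refine ⟨hN, ?_⟩
  obtain ⟨π, hπ⟩ : ∃ π : X →* X ⧸ Subgroup.zpowers (g ^ 3),
      π = QuotientGroup.mk' (Subgroup.zpowers (g ^ 3)) := ⟨_, rfl⟩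
  have hker : ∀ x, π x = 1 ↔ x ∈ Subgroup.zpowers (g ^ 3) := by
    intro x
    rw [hπ]
    exact QuotientGroup.eq_one_iff x
  have hsurj : Function.Surjective π := by
    rw [hπ]; exact QuotientGroup.mk'_surjective _
  -- `Q ∩ ⟨g ^ 3⟩ = 1`
  have hdisj : ∀ x ∈ Q, x ∈ Subgroup.zpowers (g ^ 3) → x = 1 := by
    rintro x hxQ ⟨k, rfl⟩
    have hxQ' : (g ^ 3) ^ k ∈ Q := hxQ
    change (g ^ 3) ^ k = 1
    have h1 : ((g ^ 3) ^ k) ^ m = 1 := by
      rw [← zpow_natCast, ← zpow_mul, mul_comm, zpow_mul, zpow_natCast, ← pow_mul, mul_comm, pow_mul, hg,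
        one_pow, one_zpow]
    have h2 : ((g ^ 3) ^ k) ^ 8 = 1 := by
      have h8 : ∀ y : QuaternionGroup 2, y ^ 8 = 1 := by decide
      have := h8 (e ⟨_, hxQ'⟩)
      rw [← map_pow, ← map_one e, e.injective.eq_iff] at this
      exact congrArg Subtype.val this
    have hcop : Nat.Coprime m 8 := by
      have : (8 : ℕ) = 2 ^ 3 := rfl
      rw [this]
      exact Nat.Coprime.pow_right _ (Nat.coprime_two_right.2 hm)
    have := pow_gcd_eq_one.2 ⟨h1, h2⟩
    rwa [hcop.gcd_eq_one, pow_one] at this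
  have hinj : Function.Injective (π.subgroupMap Q) := by
    rw [injective_iff_map_eq_one]
    intro q hq
    have h1 : π (q : X) = 1 := congrArg Subtype.val hq
    exact Subtype.ext (hdisj q q.2 ((hker _).1 h1))
  have e' : Q.map π ≃* QuaternionGroup 2 :=
    (MulEquiv.ofBijective (π.subgroupMap Q) ⟨hinj, π.subgroupMap_surjective Q⟩).symm.trans e
  apply nonempty_equiv_SL23_of_q8 e' (g := π g)
  · exact Subgroup.le_normalizer_map π ⟨g, hgN, rfl⟩
  · intro hc
    apply hgC
    rw [Subgroup.mem_centralizer_iff]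
    intro q hq
    have h1 := (Subgroup.mem_centralizer_iff.1 hc) (π q) ⟨q, hq, rfl⟩
    have h2 : π (g * q * g⁻¹ * q⁻¹) = 1 := by
      rw [map_mul, map_mul, map_mul, ← h1, map_inv, map_inv]
      group
    have h3 : g * q * g⁻¹ * q⁻¹ ∈ Q :=
      Q.mul_mem ((Subgroup.mem_normalizer_iff.1 hgN q).1 hq) (Q.inv_mem hq)
    have h4 := hdisj _ h3 ((hker _).1 h2)
    calc q * g = (g * q * g⁻¹ * q⁻¹)⁻¹ * (g * q) := by group
      _ = g * q := by rw [h4]; simp
  · rw [← map_pow, hker]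
    exact Subgroup.mem_zpowers _
  · rw [← MonoidHom.map_zpowers, ← Subgroup.map_sup, htop, ← MonoidHom.range_eq_map,
      MonoidHom.range_eq_top]
    exact hsurj

/-- A quaternion subgroup of order eight admitting a nontrivial action of an element of odd order gives a
section isomorphic to `SL(2,3)`. -/
theorem exists_sl23_section {Q : Subgroup X} (e : Q ≃* QuaternionGroup 2) {g : X}
    (hgN : g ∈ Subgroup.normalizer (Q : Set X)) (hgC : g ∉ Subgroup.centralizer (Q : Set X))
    {m : ℕ} (hm : Odd m) (hg : g ^ m = 1) :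
    ∃ (H K : Subgroup X) (_ : (K.subgroupOf H).Normal),
      Nonempty ((H ⧸ K.subgroupOf H) ≃* Matrix.SpecialLinearGroup (Fin 2) (ZMod 3)) := by
  obtain ⟨H, hH⟩ : ∃ H, H = Q ⊔ Subgroup.zpowers g := ⟨_, rfl⟩
  have hQH : Q ≤ H := hH ▸ le_sup_left
  have hgH : g ∈ H := hH ▸ (le_sup_right : Subgroup.zpowers g ≤ _) (Subgroup.mem_zpowers g)
  have e' : Q.subgroupOf H ≃* QuaternionGroup 2 := (Subgroup.subgroupOfEquivOfLe hQH).trans e
  obtain ⟨hN, ⟨E⟩⟩ := sl23_quotient (X := H) e' (g := ⟨g, hgH⟩) (m := m)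
    (by
      rw [Subgroup.mem_normalizer_iff]
      intro x
      rw [Subgroup.mem_subgroupOf, Subgroup.mem_subgroupOf]
      exact (Subgroup.mem_normalizer_iff.1 hgN) x)
    (by
      intro hc
      apply hgC
      rw [Subgroup.mem_centralizer_iff]
      intro q hq
      have := (Subgroup.mem_centralizer_iff.1 hc) ⟨q, hQH hq⟩ (by
        change _ ∈ Q.subgroupOf H
        rw [Subgroup.mem_subgroupOf]; exact hq)
      exact congrArg Subtype.val this)
    hm (Subtype.ext hg)
    (by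
      apply Subgroup.map_injective H.subtype_injective
      rw [Subgroup.map_sup, Subgroup.subgroupOf_map_subtype, MonoidHom.map_zpowers,
        ← MonoidHom.range_eq_map, Subgroup.range_subtype, inf_eq_left.2 hQH]
      exact hH.symm)
  have hK : (Subgroup.zpowers (g ^ 3)).subgroupOf H = Subgroup.zpowers ((⟨g, hgH⟩ : H) ^ 3) := by
    ext x
    rw [Subgroup.mem_subgroupOf, Subgroup.mem_zpowers_iff, Subgroup.mem_zpowers_iff]
    constructor
    · rintro ⟨k, hk⟩
      exact ⟨k, Subtype.ext hk⟩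
    · rintro ⟨k, hk⟩
      exact ⟨k, congrArg Subtype.val hk⟩
  refine ⟨H, Subgroup.zpowers (g ^ 3), hK ▸ hN, ?_⟩
  have hN' : ((Subgroup.zpowers (g ^ 3)).subgroupOf H).Normal := hK ▸ hN
  exact ⟨(QuotientGroup.quotientMulEquivOfEq hK).trans E⟩

end Cfsg.Agent.Lib.Helper62
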