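import Mathlib
import Cfsg.Agent.Lib.Helper5.SL2Sylow
import Cfsg.Agent.Lib.Helper5.LinearCard
import Cfsg.Agent.Lib.Helper11.SL2Lemmas
import Cfsg.Agent.Lib.Helper20.Fus5
import Cfsg.Agent.Lib.Helper62.SL23c

/-!
# Centralizer and normalizer of a Sylow 2-subgroup of `SL₂(q)`, `q` odd
-/

set_option autoImplicit false
set_option linter.unusedSimpArgs false

namespace Cfsg.Agent.Lib.Helper62

open Matrix

section Ring

variable {R : Type*} [Ring R] {I J : R}

theorem quat_rel1 (h1 : I * I = -1) (h2 : J * J = -1) (h3 : J * I = -(I * J)) :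
    (-1 + I + J + I * J) * I = (I * J) * (-1 + I + J + I * J) := by
  have p1 : ∀ x : R, x * I * I = -x := fun x => by rw [mul_assoc, h1]; simp
  have p2 : ∀ x : R, x * J * J = -x := fun x => by rw [mul_assoc, h2]; simp
  have p3 : ∀ x : R, x * J * I = -(x * I * J) := fun x => by rw [mul_assoc, h3]; simp [mul_assoc]
  simp only [mul_add, add_mul, mul_neg, neg_mul, mul_one, one_mul, ← mul_assoc, p1, p2, p3, h1, h2, h3,
    neg_neg]
  abel

theorem quat_rel2 (h1 : I * I = -1) (h2 : J * J = -1) (h3 : J * I = -(I * J)) :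
    (-1 + I + J + I * J) * J = I * (-1 + I + J + I * J) := by
  have p1 : ∀ x : R, x * I * I = -x := fun x => by rw [mul_assoc, h1]; simp
  have p2 : ∀ x : R, x * J * J = -x := fun x => by rw [mul_assoc, h2]; simp
  have p3 : ∀ x : R, x * J * I = -(x * I * J) := fun x => by rw [mul_assoc, h3]; simp [mul_assoc]
  simp only [mul_add, add_mul, mul_neg, neg_mul, mul_one, one_mul, ← mul_assoc, p1, p2, p3, h1, h2, h3,
    neg_neg]
  abel

theorem quat_rel3 (h1 : I * I = -1) (h2 : J * J = -1) (h3 : J * I = -(I * J)) :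
    (-1 + I + J + I * J) * (-1 - I - J - I * J) = 1 + 1 + 1 + 1 := by
  have p1 : ∀ x : R, x * I * I = -x := fun x => by rw [mul_assoc, h1]; simp
  have p2 : ∀ x : R, x * J * J = -x := fun x => by rw [mul_assoc, h2]; simp
  have p3 : ∀ x : R, x * J * I = -(x * I * J) := fun x => by rw [mul_assoc, h3]; simp [mul_assoc]
  simp only [mul_add, add_mul, mul_sub, sub_mul, mul_neg, neg_mul, mul_one, one_mul, ← mul_assoc, p1, p2, p3,
    h1, h2, h3, neg_neg]
  abel

theorem quat_rel4 (h1 : I * I = -1) (h2 : J * J = -1) (h3 : J * I = -(I * J)) :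
    (-1 + I + J + I * J) * (-1 + I + J + I * J) =
      (-1 - I - J - I * J) + (-1 - I - J - I * J) := by
  have p1 : ∀ x : R, x * I * I = -x := fun x => by rw [mul_assoc, h1]; simp
  have p2 : ∀ x : R, x * J * J = -x := fun x => by rw [mul_assoc, h2]; simp
  have p3 : ∀ x : R, x * J * I = -(x * I * J) := fun x => by rw [mul_assoc, h3]; simp [mul_assoc]
  simp only [mul_add, add_mul, mul_sub, sub_mul, mul_neg, neg_mul, mul_one, one_mul, ← mul_assoc, p1, p2, p3,
    h1, h2, h3, neg_neg]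
  abel

end Ring

section Mat

variable {F : Type*} [Field F]

theorem adjugate_fin_two_eq (A : Matrix (Fin 2) (Fin 2) F) : A.adjugate = A.trace • 1 - A := by
  rw [Matrix.adjugate_fin_two]
  ext a b
  fin_cases a <;> fin_cases b <;> simp [Matrix.trace_fin_two]

theorem trace_eq_zero_of_sq (g : SpecialLinearGroup (Fin 2) F)
    (hg : (g : Matrix (Fin 2) (Fin 2) F) * g = -1) : (g : Matrix (Fin 2) (Fin 2) F).trace = 0 := by
  have h1 := Cfsg.Agent.Lib.Helper11.sl2_sq g
  rw [hg] at h1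
  have h3 : (g : Matrix (Fin 2) (Fin 2) F).trace • (g : Matrix (Fin 2) (Fin 2) F) = 0 := by
    have : (g : Matrix (Fin 2) (Fin 2) F).trace • (g : Matrix (Fin 2) (Fin 2) F) =
        ((g : Matrix (Fin 2) (Fin 2) F).trace • (g : Matrix (Fin 2) (Fin 2) F) - 1) + 1 := by abel
    rw [this, ← h1]; simp
  by_contra ht
  have h4 : (g : Matrix (Fin 2) (Fin 2) F) = 0 := by
    rcases smul_eq_zero.1 h3 with h | h
    · exact absurd h ht
    · exact h
  have hdet := g.det_coe
  rw [h4] at hdet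
  simp at hdet

/-- a matrix commuting with two anticommuting square roots of `-1` is scalar -/
theorem scalar_of_commute (h2 : (2 : F) ≠ 0) {I J x : Matrix (Fin 2) (Fin 2) F} (hI : I * I = -1)
    (hJ : J * J = -1) (hJI : J * I = -(I * J)) (htI : I.trace = 0) (hxI : x * I = I * x)
    (hxJ : x * J = J * x) : (2 : F) • x = x.trace • (1 : Matrix (Fin 2) (Fin 2) F) := by
  obtain ⟨y, hy⟩ : ∃ y, y = (2 : F) • x - x.trace • (1 : Matrix (Fin 2) (Fin 2) F) := ⟨_, rfl⟩
  have hty : y.trace = 0 := by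
    rw [hy, Matrix.trace_sub, Matrix.trace_smul, Matrix.trace_smul, Matrix.trace_one]
    simp
    ring
  have hyI : y * I = I * y := by
    rw [hy, sub_mul, mul_sub, smul_mul_assoc, mul_smul_comm, hxI]
    simp
  have hyJ : y * J = J * y := by
    rw [hy, sub_mul, mul_sub, smul_mul_assoc, mul_smul_comm, hxJ]
    simp
  have h1 := Cfsg.Agent.Lib.Helper11.anticomm_of_trace_zero y I hty htI
  rw [← hyI] at h1
  obtain ⟨c, hc⟩ : ∃ c, c = (y * I).trace := ⟨_, rfl⟩
  rw [← hc] at h1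
  -- multiply by `I`
  have h3 : -((2 : F) • y) = c • I := by
    have := congrArg (· * I) h1
    simp only [add_mul, mul_assoc, hI, smul_mul_assoc, one_mul, mul_neg, mul_one] at this
    rw [← this, two_smul]
    abel
  have h4 : (c • I) * J = J * (c • I) := by
    rw [← h3, neg_mul, mul_neg, smul_mul_assoc, mul_smul_comm, hyJ]
  rw [smul_mul_assoc, mul_smul_comm, hJI, smul_neg] at h4
  have h5 : (2 * c) • (I * J) = 0 := by
    rw [mul_smul, two_smul]
    nth_rewrite 1 [h4]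
    simp
  have hIJ : I * J ≠ 0 := by
    intro h
    have h6 : I * (I * J) = 0 := by rw [h, mul_zero]
    rw [← mul_assoc, hI, neg_mul, one_mul, neg_eq_zero] at h6
    rw [h6, mul_zero] at hJ
    have := congrFun (congrFun hJ 0) 0
    simp at this
  have hc0 : c = 0 := by
    rcases smul_eq_zero.1 h5 with h | h
    · exact (mul_eq_zero.1 h).resolve_left h2
    · exact absurd h hIJ
  rw [hc0, zero_smul, neg_eq_zero] at h3
  have hy0 : y = 0 := (smul_eq_zero.1 h3).resolve_left h2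
  rw [hy0] at hy
  exact (sub_eq_zero.1 hy.symm)

theorem eq_one_or_neg_one_of_commute (h2 : (2 : F) ≠ 0) (i j x : SpecialLinearGroup (Fin 2) F)
    (hi : (i : Matrix (Fin 2) (Fin 2) F) * i = -1) (hj : (j : Matrix (Fin 2) (Fin 2) F) * j = -1)
    (hji : (j : Matrix (Fin 2) (Fin 2) F) * i = -((i : Matrix (Fin 2) (Fin 2) F) * j))
    (hxi : x * i = i * x) (hxj : x * j = j * x) : x = 1 ∨ x = -1 := by
  have h := scalar_of_commute h2 hi hj hji (trace_eq_zero_of_sq i hi) (congrArg Subtype.val hxi)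
    (congrArg Subtype.val hxj)
  have e00 := congrFun (congrFun h 0) 0
  have e01 := congrFun (congrFun h 0) 1
  have e10 := congrFun (congrFun h 1) 0
  have e11 := congrFun (congrFun h 1) 1
  simp only [Matrix.smul_apply, smul_eq_mul, Matrix.one_apply_eq, mul_one,
    Matrix.one_apply_ne (show (0 : Fin 2) ≠ 1 by decide), Matrix.one_apply_ne (show (1 : Fin 2) ≠ 0 by decide),
    mul_zero, Matrix.trace_fin_two] at e00 e01 e10 e11
  have h01 : (x : Matrix (Fin 2) (Fin 2) F) 0 1 = 0 := (mul_eq_zero.1 e01).resolve_left h2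
  have h10 : (x : Matrix (Fin 2) (Fin 2) F) 1 0 = 0 := (mul_eq_zero.1 e10).resolve_left h2
  have hdd : (x : Matrix (Fin 2) (Fin 2) F) 1 1 = (x : Matrix (Fin 2) (Fin 2) F) 0 0 := by
    linear_combination -e00
  have hdet := x.det_coe
  rw [Matrix.det_fin_two, h01, hdd, zero_mul, sub_zero] at hdet
  have hsq : ((x : Matrix (Fin 2) (Fin 2) F) 0 0 - 1) * ((x : Matrix (Fin 2) (Fin 2) F) 0 0 + 1) = 0 := by
    linear_combination hdet
  rcases mul_eq_zero.1 hsq with h | h
  · left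
    ext a b
    fin_cases a <;> fin_cases b
    · simpa using sub_eq_zero.1 h
    · simpa using h01
    · simpa using h10
    · simp only [Fin.mk_one, Fin.isValue, SpecialLinearGroup.coe_one, Matrix.one_apply_eq]
      rw [hdd]; exact sub_eq_zero.1 h
  · right
    ext a b
    fin_cases a <;> fin_cases b
    · simpa using eq_neg_of_add_eq_zero_left h
    · simpa using h01
    · simpa using h10
    · simp only [Fin.mk_one, Fin.isValue, SpecialLinearGroup.coe_neg, SpecialLinearGroup.coe_one,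
        Matrix.neg_apply, Matrix.one_apply_eq]
      rw [hdd]; exact eq_neg_of_add_eq_zero_left h

/-- the element `(-1 + i + j + ij) / 2` of order three normalizing `⟨i, j⟩` -/
theorem exists_omega (h2 : (2 : F) ≠ 0) (i j : SpecialLinearGroup (Fin 2) F)
    (hi : (i : Matrix (Fin 2) (Fin 2) F) * i = -1) (hj : (j : Matrix (Fin 2) (Fin 2) F) * j = -1)
    (hji : (j : Matrix (Fin 2) (Fin 2) F) * i = -((i : Matrix (Fin 2) (Fin 2) F) * j)) :
    ∃ w : SpecialLinearGroup (Fin 2) F, w * i = i * j * w ∧ w * j = i * w ∧ w ^ 3 = 1 ∧ w ≠ 1 := by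
  obtain ⟨I, hIdef⟩ : ∃ I, I = (i : Matrix (Fin 2) (Fin 2) F) := ⟨_, rfl⟩
  obtain ⟨J, hJdef⟩ : ∃ J, J = (j : Matrix (Fin 2) (Fin 2) F) := ⟨_, rfl⟩
  have htI : I.trace = 0 := hIdef ▸ trace_eq_zero_of_sq i hi
  have htJ : J.trace = 0 := hJdef ▸ trace_eq_zero_of_sq j hj
  rw [← hIdef, ← hJdef] at hji
  rw [← hIdef] at hi
  rw [← hJdef] at hj
  have htIJ : (I * J).trace = 0 := by
    have h1 := Cfsg.Agent.Lib.Helper11.anticomm_of_trace_zero I J htI htJ
    rw [hji, add_neg_cancel] at h1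
    have := congrFun (congrFun h1 0) 0
    simpa using this.symm
  obtain ⟨c, hc⟩ : ∃ c : F, c = 2⁻¹ := ⟨_, rfl⟩
  have hcc : c + c = 1 := by rw [hc]; field_simp; norm_num
  have hcc4 : c * c * 4 = 1 := by linear_combination (2 * c + 1) * hcc
  obtain ⟨W, hW⟩ : ∃ W, W = c • (-1 + I + J + I * J) := ⟨_, rfl⟩
  obtain ⟨W', hW'⟩ : ∃ W', W' = c • (-1 - I - J - I * J) := ⟨_, rfl⟩
  have hWW' : W * W' = 1 := by
    rw [hW, hW', smul_mul_smul_comm, quat_rel3 hi hj hji]
    have : (1 + 1 + 1 + 1 : Matrix (Fin 2) (Fin 2) F) = (4 : F) • 1 := by module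
    rw [this, smul_smul, hcc4, one_smul]
  have hWW : W * W = W' := by
    rw [hW, hW', smul_mul_smul_comm, quat_rel4 hi hj hji, ← two_smul F, smul_smul]
    congr 1
    linear_combination c * hcc
  have htW : W.trace = -1 := by
    rw [hW, Matrix.trace_smul, Matrix.trace_add, Matrix.trace_add, Matrix.trace_add, Matrix.trace_neg,
      Matrix.trace_one, htI, htJ, htIJ]
    simp
    linear_combination hcc
  have hadj : W.adjugate = W' := by
    rw [adjugate_fin_two_eq, htW, hW, hW']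
    have : (-1 : F) • (1 : Matrix (Fin 2) (Fin 2) F) = -((c + c) • 1) := by rw [hcc]; simp
    rw [this]
    module
  have hdet : W.det = 1 := by
    have h1 := Matrix.mul_adjugate W
    rw [hadj, hWW'] at h1
    have := congrFun (congrFun h1 0) 0
    simpa using this.symm
  obtain ⟨w, hw⟩ : ∃ w : SpecialLinearGroup (Fin 2) F, (w : Matrix (Fin 2) (Fin 2) F) = W :=
    ⟨⟨W, hdet⟩, rfl⟩
  refine ⟨w, ?_, ?_, ?_, ?_⟩
  · apply Subtype.ext
    change (w : Matrix (Fin 2) (Fin 2) F) * (i : Matrix (Fin 2) (Fin 2) F) =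
      (i : Matrix (Fin 2) (Fin 2) F) * j * w
    rw [hw, ← hIdef, ← hJdef, hW, smul_mul_assoc, mul_smul_comm, quat_rel1 hi hj hji]
  · apply Subtype.ext
    change (w : Matrix (Fin 2) (Fin 2) F) * (j : Matrix (Fin 2) (Fin 2) F) =
      (i : Matrix (Fin 2) (Fin 2) F) * w
    rw [hw, ← hIdef, ← hJdef, hW, smul_mul_assoc, mul_smul_comm, quat_rel2 hi hj hji]
  · apply Subtype.ext
    rw [pow_succ, pow_two]
    change (w : Matrix (Fin 2) (Fin 2) F) * w * w = 1
    rw [hw, hWW]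
    have : W' * W = W * W' := by rw [← hWW, mul_assoc]
    rw [this, hWW']
  · intro h
    have hW1 : W = 1 := by rw [← hw, h]; rfl
    have h3 := quat_rel2 hi hj hji
    have h4 : W * J = I * W := by rw [hW, smul_mul_assoc, mul_smul_comm, h3]
    rw [hW1, one_mul, mul_one] at h4
    rw [h4, hi] at hji
    have := congrFun (congrFun hji 0) 0
    simp at this
    apply h2
    linear_combination -this

end Mat

section Quat

open QuaternionGroup

theorem quat_facts (n h : ℕ) [NeZero n] (hn : h + h = n) :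
    (a (h : ZMod (2 * n)) : QuaternionGroup n) * a (h : ZMod (2 * n)) = a (n : ZMod (2 * n)) ∧
    (xa 0 : QuaternionGroup n) * xa 0 = a (n : ZMod (2 * n)) ∧
    (a (n : ZMod (2 * n)) : QuaternionGroup n) ≠ 1 ∧
    (a (n : ZMod (2 * n)) : QuaternionGroup n) * a (n : ZMod (2 * n)) = 1 ∧
    (xa 0 : QuaternionGroup n) * a (h : ZMod (2 * n)) =
      a (n : ZMod (2 * n)) * (a (h : ZMod (2 * n)) * xa 0) := by
  have h2n : (n : ZMod (2 * n)) + n = 0 := by
    have := ZMod.natCast_self (2 * n)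
    rw [two_mul] at this
    push_cast at this
    rw [two_mul]
    exact this
  have hh : (h : ZMod (2 * n)) + h = n := by
    rw [← Nat.cast_add, hn]
  refine ⟨?_, ?_, ?_, ?_, ?_⟩
  · rw [a_mul_a, hh]
  · rw [xa_mul_xa]; simp
  · rw [one_def]
    intro hc
    have h0 : (n : ZMod (2 * n)) = 0 := by
      injection hc
    rw [ZMod.natCast_eq_zero_iff] at h0
    have hpos : 0 < n := Nat.pos_of_ne_zero (NeZero.ne n)
    have := Nat.le_of_dvd hpos h0
    omega
  · rw [a_mul_a, h2n, one_def]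
  · rw [xa_mul_a, a_mul_xa, a_mul_xa]
    congr 1
    linear_combination hh + h2n

theorem q8_gen : ∀ g : QuaternionGroup 2, ∃ k : Fin 4, ∃ l : Fin 2,
    g = (a 1 : QuaternionGroup 2) ^ (k : ℕ) * (xa 0 : QuaternionGroup 2) ^ (l : ℕ) := by
  decide

end Quat

section Grp

variable {F : Type*} [Field F]

/-- anticommuting square roots of `-1` in a generalized quaternion subgroup of `SL₂` -/
theorem quat_pair (h2 : (2 : F) ≠ 0) (S : Subgroup (SpecialLinearGroup (Fin 2) F)) (n h : ℕ) [NeZero n]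
    (hn : h + h = n) (e : S ≃* QuaternionGroup n) {i j : SpecialLinearGroup (Fin 2) F}
    (hi : i = (e.symm (QuaternionGroup.a (h : ZMod (2 * n))) : S))
    (hj : j = (e.symm (QuaternionGroup.xa 0) : S)) :
    (i : Matrix (Fin 2) (Fin 2) F) * i = -1 ∧ (j : Matrix (Fin 2) (Fin 2) F) * j = -1 ∧
      (j : Matrix (Fin 2) (Fin 2) F) * i = -((i : Matrix (Fin 2) (Fin 2) F) * j) := by
  obtain ⟨f1, f2, f3, f4, f5⟩ := quat_facts n h hn
  obtain ⟨z, hz⟩ : ∃ z : SpecialLinearGroup (Fin 2) F,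
      z = (e.symm (QuaternionGroup.a (n : ZMod (2 * n))) : S) := ⟨_, rfl⟩
  have g1 : i * i = z := by
    rw [hi, hz, ← f1, map_mul]; rfl
  have g2 : j * j = z := by
    rw [hj, hz, ← f2, map_mul]; rfl
  have g3 : z ≠ 1 := by
    intro hc
    apply f3
    apply e.symm.injective
    apply Subtype.ext
    rw [← hz, hc, map_one]; rfl
  have g4 : z * z = 1 := by
    have : (e.symm (QuaternionGroup.a (n : ZMod (2 * n))) : S) *
        e.symm (QuaternionGroup.a (n : ZMod (2 * n))) = 1 := by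
      rw [← map_mul, f4, map_one]
    rw [hz]
    exact congrArg Subtype.val this
  have g5 : j * i = z * (i * j) := by
    have : (e.symm (QuaternionGroup.xa 0) : S) * e.symm (QuaternionGroup.a (h : ZMod (2 * n))) =
        e.symm (QuaternionGroup.a (n : ZMod (2 * n))) *
          (e.symm (QuaternionGroup.a (h : ZMod (2 * n))) * e.symm (QuaternionGroup.xa 0)) := by
      rw [← map_mul, ← map_mul, ← map_mul, f5]
    rw [hi, hj, hz]
    exact congrArg Subtype.val this
  have hz1 := Cfsg.Agent.Lib.Helper11.sl2_eq_neg_one_of_sq h2 z g4 g3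
  refine ⟨?_, ?_, ?_⟩
  · have h0 : (i : Matrix (Fin 2) (Fin 2) F) * i =
        ((i * i : SpecialLinearGroup (Fin 2) F) : Matrix (Fin 2) (Fin 2) F) := rfl
    rw [h0, g1, hz1]
  · have h0 : (j : Matrix (Fin 2) (Fin 2) F) * j =
        ((j * j : SpecialLinearGroup (Fin 2) F) : Matrix (Fin 2) (Fin 2) F) := rfl
    rw [h0, g2, hz1]
  · have h0 : (j : Matrix (Fin 2) (Fin 2) F) * i =
        ((j * i : SpecialLinearGroup (Fin 2) F) : Matrix (Fin 2) (Fin 2) F) := rfl
    have h1 : ((z * (i * j) : SpecialLinearGroup (Fin 2) F) : Matrix (Fin 2) (Fin 2) F) =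
        (z : Matrix (Fin 2) (Fin 2) F) * ((i : Matrix (Fin 2) (Fin 2) F) * j) := rfl
    rw [h0, g5, h1, hz1, neg_mul, one_mul]

theorem neg_one_mem_center : (-1 : SpecialLinearGroup (Fin 2) F) ∈
    Subgroup.center (SpecialLinearGroup (Fin 2) F) := by
  rw [Subgroup.mem_center_iff]
  intro g
  simp

/-- the centralizer of a generalized quaternion subgroup of `SL₂` consists of `±1` -/
theorem centralizer_quat (h2 : (2 : F) ≠ 0) (S : Subgroup (SpecialLinearGroup (Fin 2) F)) (n h : ℕ)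
    [NeZero n] (hn : h + h = n) (e : S ≃* QuaternionGroup n) :
    (∀ x ∈ Subgroup.centralizer (S : Set (SpecialLinearGroup (Fin 2) F)), x = 1 ∨ x = -1) ∧
    (-1 : SpecialLinearGroup (Fin 2) F) ∈ S := by
  obtain ⟨i, hi⟩ : ∃ i : SpecialLinearGroup (Fin 2) F,
      i = (e.symm (QuaternionGroup.a (h : ZMod (2 * n))) : S) := ⟨_, rfl⟩
  obtain ⟨j, hj⟩ : ∃ j : SpecialLinearGroup (Fin 2) F,
      j = (e.symm (QuaternionGroup.xa 0) : S) := ⟨_, rfl⟩
  obtain ⟨r1, r2, r3⟩ := quat_pair h2 S n h hn e hi hj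
  have hiS : i ∈ S := by rw [hi]; exact (e.symm _).2
  have hjS : j ∈ S := by rw [hj]; exact (e.symm _).2
  constructor
  · intro x hx
    rw [Subgroup.mem_centralizer_iff] at hx
    exact eq_one_or_neg_one_of_commute h2 i j x r1 r2 r3 (hx i hiS).symm (hx j hjS).symm
  · have : (-1 : SpecialLinearGroup (Fin 2) F) = i * i := by
      apply Subtype.ext
      have h0 : ((i * i : SpecialLinearGroup (Fin 2) F) : Matrix (Fin 2) (Fin 2) F) =
          (i : Matrix (Fin 2) (Fin 2) F) * i := rfl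
      rw [h0, r1]
      rfl
    rw [this]
    exact S.mul_mem hiS hiS

theorem centralizer_quat_eq_center (h2 : (2 : F) ≠ 0) (S : Subgroup (SpecialLinearGroup (Fin 2) F))
    (n h : ℕ) [NeZero n] (hn : h + h = n) (e : S ≃* QuaternionGroup n) :
    Subgroup.centralizer (S : Set (SpecialLinearGroup (Fin 2) F)) =
      Subgroup.center (SpecialLinearGroup (Fin 2) F) := by
  apply le_antisymm
  · intro x hx
    rcases (centralizer_quat h2 S n h hn e).1 x hx with rfl | rfl
    · exact Subgroup.one_mem _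
    · exact neg_one_mem_center
  · exact Subgroup.center_le_centralizer _

end Grp

section Q8

open Cfsg.Agent.Lib.Helper20.Fus

/-- `|N(Q) : Q C(Q)|` divides 6 for a quaternion subgroup `Q` of order 8 -/
theorem q8_relIndex_dvd_six {G : Type*} [Group G] {Q : Subgroup G} (e : Q ≃* QuaternionGroup 2) :
    (Q ⊔ Subgroup.centralizer (Q : Set G)).relIndex (Subgroup.normalizer (Q : Set G)) ∣ 6 := by
  rw [← innSub_eq]
  obtain ⟨f, hf⟩ : ∃ f : Subgroup.normalizer (Q : Set G) →* Equiv.Perm (Fin 3),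
      f = piHom.comp ((MulAut.congr e).toMonoidHom.comp Q.normalizerMonoidHom) := ⟨_, rfl⟩
  have hker : (innSub Q).subgroupOf (Subgroup.normalizer (Q : Set G)) = f.ker := by
    ext x
    rw [Subgroup.mem_subgroupOf, MonoidHom.mem_ker]
    have h1 : f x = piHom (autOf e x.2) := by rw [hf]; rfl
    rw [h1, piHom_eq_one_iff, mem_innSub]
    constructor
    · rintro ⟨u, hu, hx⟩
      refine ⟨e ⟨u, hu⟩, fun w => ?_⟩
      obtain ⟨⟨v, hv⟩, rfl⟩ := e.surjective w
      have h3 : autOf e x.2 (e ⟨v, hv⟩) = _ := autOf_apply e x.2 hv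
      rw [h3, ← map_inv, ← map_mul, ← map_mul]
      congr 1
      apply Subtype.ext
      exact hx v hv
    · rintro ⟨u', hu'⟩
      refine ⟨(e.symm u' : Q), (e.symm u').2, fun v hv => ?_⟩
      have h2 := hu' (e ⟨v, hv⟩)
      have h3 : autOf e x.2 (e ⟨v, hv⟩) = _ := autOf_apply e x.2 hv
      rw [h3] at h2
      have h4 : u' * e ⟨v, hv⟩ * u'⁻¹ = e (e.symm u' * ⟨v, hv⟩ * (e.symm u')⁻¹) := by
        rw [map_mul, map_mul, map_inv, MulEquiv.apply_symm_apply]
      rw [h4] at h2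
      exact congrArg Subtype.val (e.injective h2)
  unfold Subgroup.relIndex
  rw [hker, Subgroup.index_ker]
  have := Subgroup.card_subgroup_dvd_card f.range
  rwa [Nat.card_perm, Nat.card_fin] at this

end Q8

section Norm

variable {F : Type*} [Field F] [Finite F]

theorem normalizer_quat_eq (h2 : (2 : F) ≠ 0) (S : Sylow 2 (SpecialLinearGroup (Fin 2) F)) (m : ℕ)
    (e : (S : Subgroup (SpecialLinearGroup (Fin 2) F)) ≃* QuaternionGroup (2 ^ (m + 2))) :
    Subgroup.normalizer ((S : Subgroup (SpecialLinearGroup (Fin 2) F)) :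
      Set (SpecialLinearGroup (Fin 2) F)) = (S : Subgroup (SpecialLinearGroup (Fin 2) F)) := by
  have hne : NeZero (2 ^ (m + 2)) := ⟨by positivity⟩
  apply le_antisymm _ Subgroup.le_normalizer
  intro g hg
  obtain ⟨α, hα⟩ := Cfsg.Agent.Lib.Helper55.quatLike_of_equiv _ m e
  obtain ⟨a, b, hb, hab⟩ := Nat.exists_eq_two_pow_mul_odd (orderOf_pos g).ne'
  have hgb : (g ^ 2 ^ a) ^ b = 1 := by
    rw [← pow_mul, ← hab, pow_orderOf_eq_one]
  have hodd : Odd (orderOf (g ^ 2 ^ a)) := Odd.of_dvd_nat hb (orderOf_dvd_of_pow_eq_one hgb)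
  have hc := mem_centralizer_of_quatLike hα (Subgroup.pow_mem _ hg (2 ^ a)) hodd
  have h1 : g ^ 2 ^ a = 1 := by
    rcases (centralizer_quat h2 _ (2 ^ (m + 2)) (2 ^ (m + 1)) (by ring) e).1 _ hc with h | h
    · exact h
    · exfalso
      rw [h] at hgb
      rw [Odd.neg_one_pow hb] at hgb
      have := congrArg (fun x : SpecialLinearGroup (Fin 2) F => (x : Matrix (Fin 2) (Fin 2) F) 0 0) hgb
      simp at this
      apply h2
      linear_combination -this
  have hp : IsPGroup 2 (Subgroup.zpowers g) := by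
    rw [IsPGroup.iff_card]
    rw [Nat.card_zpowers]
    exact (Nat.dvd_prime_pow Nat.prime_two).1 (orderOf_dvd_of_pow_eq_one h1) |>.imp fun k hk => hk.2
  have h3 := hp.inf_normalizer_sylow S
  have h4 : g ∈ Subgroup.zpowers g ⊓ (S : Subgroup (SpecialLinearGroup (Fin 2) F)) := by
    rw [← h3]
    exact ⟨Subgroup.mem_zpowers g, hg⟩
  exact h4.2

theorem card_normalizer_q8 (h2 : (2 : F) ≠ 0) (S : Sylow 2 (SpecialLinearGroup (Fin 2) F))
    (e : (S : Subgroup (SpecialLinearGroup (Fin 2) F)) ≃* QuaternionGroup 2) :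
    Nat.card (Subgroup.normalizer ((S : Subgroup (SpecialLinearGroup (Fin 2) F)) :
      Set (SpecialLinearGroup (Fin 2) F))) = 3 * Nat.card S := by
  obtain ⟨Q, hQ⟩ : ∃ Q : Subgroup (SpecialLinearGroup (Fin 2) F), Q = S := ⟨_, rfl⟩
  obtain ⟨i, hi⟩ : ∃ i : SpecialLinearGroup (Fin 2) F,
      i = (e.symm (QuaternionGroup.a ((1 : ℕ) : ZMod (2 * 2))) :
        (S : Subgroup (SpecialLinearGroup (Fin 2) F))) := ⟨_, rfl⟩
  obtain ⟨j, hj⟩ : ∃ j : SpecialLinearGroup (Fin 2) F,
      j = (e.symm (QuaternionGroup.xa 0) : (S : Subgroup (SpecialLinearGroup (Fin 2) F))) := ⟨_, rfl⟩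
  obtain ⟨r1, r2, r3⟩ := quat_pair h2 _ 2 1 rfl e hi hj
  have hiS : i ∈ Q := by rw [hi, hQ]; exact (e.symm _).2
  have hjS : j ∈ Q := by rw [hj, hQ]; exact (e.symm _).2
  obtain ⟨w, w1, w2, w3, w4⟩ := exists_omega h2 i j r1 r2 r3
  have hgen : ∀ s ∈ Q, ∃ k l : ℕ, s = i ^ k * j ^ l := by
    intro s hs
    rw [hQ] at hs
    obtain ⟨k, l, hkl⟩ := q8_gen (e ⟨s, hs⟩)
    refine ⟨k, l, ?_⟩
    have h1 : (⟨s, hs⟩ : (S : Subgroup (SpecialLinearGroup (Fin 2) F))) =
        e.symm (QuaternionGroup.a 1) ^ (k : ℕ) * e.symm (QuaternionGroup.xa 0) ^ (l : ℕ) := by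
      apply e.injective
      rw [hkl, map_mul, map_pow, map_pow, MulEquiv.apply_symm_apply, MulEquiv.apply_symm_apply]
    have h2' := congrArg Subtype.val h1
    rw [hi, hj, Nat.cast_one]
    exact h2'
  have hconj : ∀ s ∈ Q, w * s * w⁻¹ ∈ Q := by
    intro s hs
    obtain ⟨k, l, rfl⟩ := hgen s hs
    have e1 : w * i * w⁻¹ = i * j := by rw [w1]; group
    have e2 : w * j * w⁻¹ = i := by rw [w2]; group
    have : w * (i ^ k * j ^ l) * w⁻¹ = (w * i * w⁻¹) ^ k * (w * j * w⁻¹) ^ l := by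
      rw [conj_pow, conj_pow]; group
    rw [this, e1, e2]
    exact Q.mul_mem (Q.pow_mem (Q.mul_mem hiS hjS) k) (Q.pow_mem hiS l)
  have hwN : w ∈ Subgroup.normalizer (Q : Set (SpecialLinearGroup (Fin 2) F)) := by
    rw [Subgroup.mem_normalizer_iff]
    intro s
    refine ⟨hconj s, fun hs => ?_⟩
    have h1 := hconj _ (hconj _ hs)
    have h3 : w * (w * (w * s * w⁻¹) * w⁻¹) * w⁻¹ = w ^ 3 * s * (w ^ 3)⁻¹ := by
      simp only [pow_succ, pow_zero, one_mul, _root_.mul_inv_rev, mul_assoc]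
    rw [h3, w3] at h1
    simpa using h1
  have hcardQ : Nat.card Q = 8 := by
    rw [hQ, Nat.card_congr e.toEquiv, Nat.card_eq_fintype_card, QuaternionGroup.card]
  have hwQ : w ∉ Q := by
    intro hw
    have h1 : (⟨w, hw⟩ : Q) ^ 8 = 1 := by rw [← hcardQ]; exact pow_card_eq_one'
    have h3 : w ^ 8 = 1 := congrArg Subtype.val h1
    apply w4
    calc w = w ^ 9 * (w ^ 8)⁻¹ := by group
      _ = (w ^ 3) ^ 3 * (w ^ 8)⁻¹ := by rw [← pow_mul]
      _ = 1 := by rw [w3, h3]; simp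
  have hcen : Subgroup.centralizer (Q : Set (SpecialLinearGroup (Fin 2) F)) ≤ Q := by
    intro x hx
    rw [hQ] at hx ⊢
    obtain ⟨c1, c2⟩ := centralizer_quat h2 _ 2 1 rfl e
    rcases c1 x hx with rfl | rfl
    · exact Subgroup.one_mem _
    · exact c2
  have hdvd : Q.relIndex (Subgroup.normalizer (Q : Set (SpecialLinearGroup (Fin 2) F))) ∣ 6 := by
    have := q8_relIndex_dvd_six (hQ ▸ e : Q ≃* QuaternionGroup 2)
    rwa [sup_eq_left.2 hcen] at this
  have hodd : ¬ 2 ∣ Q.relIndex (Subgroup.normalizer (Q : Set (SpecialLinearGroup (Fin 2) F))) := by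
    intro h
    have h1 := Subgroup.relIndex_mul_index (Subgroup.le_normalizer (H := Q))
    have h3 : 2 ∣ Q.index := h1 ▸ Dvd.dvd.mul_right h _
    rw [hQ] at h3
    exact S.not_dvd_index h3
  have hne1 : Q.relIndex (Subgroup.normalizer (Q : Set (SpecialLinearGroup (Fin 2) F))) ≠ 1 := by
    intro h
    rw [Subgroup.relIndex_eq_one] at h
    exact hwQ (h hwN)
  have h3 : Q.relIndex (Subgroup.normalizer (Q : Set (SpecialLinearGroup (Fin 2) F))) = 3 := by
    generalize Q.relIndex (Subgroup.normalizer (Q : Set (SpecialLinearGroup (Fin 2) F))) = r at *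
    have hle : r ≤ 6 := Nat.le_of_dvd (by norm_num) hdvd
    interval_cases r <;> first | rfl | omega | (exfalso; revert hdvd; decide)
  have h5 := (Q.subgroupOf (Subgroup.normalizer (Q : Set (SpecialLinearGroup (Fin 2) F)))).card_mul_index
  have h6 : (Q.subgroupOf (Subgroup.normalizer (Q : Set (SpecialLinearGroup (Fin 2) F)))).index = 3 := h3
  rw [h6, Nat.card_congr (Subgroup.subgroupOfEquivOfLe (Subgroup.le_normalizer (H := Q))).toEquiv] at h5
  subst hQ
  rw [← h5, mul_comm]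

end Norm

section Arith

theorem sixteen_dvd_of_mod_eight {q : ℕ} (hq : q % 8 = 1 ∨ q % 8 = 7) : 16 ∣ q * (q ^ 2 - 1) := by
  rcases hq with h | h
  · obtain ⟨t, rfl⟩ : ∃ t, q = 8 * t + 1 := ⟨q / 8, by omega⟩
    have h1 : (8 * t + 1) ^ 2 - 1 = 16 * (4 * t ^ 2 + t) := by
      have : (8 * t + 1) ^ 2 = 16 * (4 * t ^ 2 + t) + 1 := by ring
      omega
    rw [h1]
    exact Dvd.dvd.mul_left (Dvd.intro _ rfl) _
  · obtain ⟨t, rfl⟩ : ∃ t, q = 8 * t + 7 := ⟨q / 8, by omega⟩
    have h1 : (8 * t + 7) ^ 2 - 1 = 16 * (4 * t ^ 2 + 7 * t + 3) := by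
      have : (8 * t + 7) ^ 2 = 16 * (4 * t ^ 2 + 7 * t + 3) + 1 := by ring
      omega
    rw [h1]
    exact Dvd.dvd.mul_left (Dvd.intro _ rfl) _

theorem not_sixteen_dvd_of_mod_eight {q : ℕ} (hq : q % 8 = 3 ∨ q % 8 = 5) :
    ¬ 16 ∣ q * (q ^ 2 - 1) := by
  rcases hq with h | h
  · obtain ⟨t, rfl⟩ : ∃ t, q = 8 * t + 3 := ⟨q / 8, by omega⟩
    have h1 : (8 * t + 3) ^ 2 - 1 = 8 * (8 * t ^ 2 + 6 * t + 1) := by
      have : (8 * t + 3) ^ 2 = 8 * (8 * t ^ 2 + 6 * t + 1) + 1 := by ring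
      omega
    have h2 : (8 * t + 3) * (8 * (8 * t ^ 2 + 6 * t + 1)) =
        8 * (2 * (32 * t ^ 3 + 36 * t ^ 2 + 13 * t + 1) + 1) := by ring
    rw [h1, h2]
    omega
  · obtain ⟨t, rfl⟩ : ∃ t, q = 8 * t + 5 := ⟨q / 8, by omega⟩
    have h1 : (8 * t + 5) ^ 2 - 1 = 8 * (8 * t ^ 2 + 10 * t + 3) := by
      have : (8 * t + 5) ^ 2 = 8 * (8 * t ^ 2 + 10 * t + 3) + 1 := by ring
      omega
    have h2 : (8 * t + 5) * (8 * (8 * t ^ 2 + 10 * t + 3)) =
        8 * (2 * (32 * t ^ 3 + 60 * t ^ 2 + 37 * t + 7) + 1) := by ring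
    rw [h1, h2]
    omega

end Arith

end Cfsg.Agent.Lib.Helper62
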