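import Cfsg.Agent.Lib.Helper1.SchurZassenhaus
import Cfsg.Agent.Lib.Helper76.PSolvable

/-!
# p-complements of p-soluble groups (Hall's E, C, D for the set of primes `p'`)
-/

set_option autoImplicit false

namespace Cfsg.Agent.Lib.Helper62

open Cfsg Cfsg.Agent.Lib.Helper1 Cfsg.Agent.Lib.Helper76
open scoped Pointwise

universe u

/-- A `p`-complement: order prime to `p`, index a power of `p`. -/
def IsPCompl {G : Type*} [Group G] (p : ℕ) (H : Subgroup G) : Prop :=
  (Nat.card H).Coprime p ∧ ∃ n : ℕ, H.index = p ^ n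

/-- A non-trivial `p`-soluble group has a non-trivial normal subgroup that is a `p`-group or a
`p'`-group. -/
theorem exists_normal_of_isPSolvable {G : Type*} [Group G] [Finite G] {p : ℕ} [Fact p.Prime]
    [Nontrivial G] (hG : IsPSolvable p G) :
    ∃ N : Subgroup G, N.Normal ∧ N ≠ ⊥ ∧ (IsPGroup p N ∨ (Nat.card N).Coprime p) := by
  obtain ⟨n, H, h0, hlast, -, hnorm, hstep⟩ := hG
  by_contra hcon
  have hall : ∀ i : Fin (n + 1), H i = ⊥ := by
    intro i
    induction i using Fin.induction with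
    | zero => exact h0
    | succ i ih =>
      by_contra hne
      apply hcon
      refine ⟨H i.succ, hnorm _, hne, ?_⟩
      have := hstep i
      rw [ih, Subgroup.relIndex_bot_left] at this
      rcases this with ⟨m, hm⟩ | h
      · exact Or.inl (IsPGroup.of_card hm)
      · exact Or.inr h
  have := hall (Fin.last n)
  rw [hlast] at this
  exact top_ne_bot this

/-- Dominance in the Schur–Zassenhaus situation with a normal `p`-subgroup. -/
theorem exists_conj_le_of_le_sup {G : Type u} [Group G] [Finite G] {p : ℕ} [Fact p.Prime]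
    (N H U : Subgroup G) [hN : N.Normal] (hNp : IsPGroup p N) (hH : (Nat.card H).Coprime p)
    (hU : (Nat.card U).Coprime p) (hUH : U ≤ H ⊔ N) :
    ∃ x : G, U.map (MulAut.conj x).toMonoidHom ≤ H := by
  obtain ⟨a, ha⟩ := IsPGroup.iff_card.mp hNp
  set A : Subgroup G := (U ⊔ N) ⊓ H with hA
  have hnorm : ∀ X : Subgroup G, X ≤ Subgroup.normalizer (N : Set G) := by
    intro X
    rw [Subgroup.normalizer_eq_top_iff.mpr hN]
    exact le_top
  have hAcop : (Nat.card A).Coprime (Nat.card N) := by
    rw [ha]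
    apply Nat.Coprime.pow_right
    exact Nat.Coprime.of_dvd_left (Subgroup.card_dvd_of_le inf_le_right) hH
  have hUcop : (Nat.card U).Coprime (Nat.card N) := by
    rw [ha]
    exact Nat.Coprime.pow_right _ hU
  have hB : U ≤ A ⊔ N := by
    intro u hu
    obtain ⟨h, hh, n, hn, rfl⟩ := Subgroup.mem_sup_of_normal_right.mp (hUH hu)
    apply Subgroup.mul_mem_sup _ hn
    refine ⟨?_, hh⟩
    have : h = h * n * n⁻¹ := by group
    rw [this]
    exact Subgroup.mul_mem_sup hu (N.inv_mem hn)
  have hsup : A ⊔ N = U ⊔ N :=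
    le_antisymm (sup_le inf_le_left le_sup_right) (sup_le hB le_sup_right)
  have hcard : Nat.card U = Nat.card A := by
    have h1 := card_sup_of_disjoint (hnorm A) (Subgroup.disjoint_of_coprime_natCard hAcop)
    have h2 := card_sup_of_disjoint (hnorm U) (Subgroup.disjoint_of_coprime_natCard hUcop)
    rw [hsup, h2] at h1
    exact Nat.eq_of_mul_eq_mul_right Nat.card_pos h1
  have hsolv : Group.IsSolvable N := by
    have := hNp.isNilpotent
    infer_instance
  obtain ⟨k, -, hk⟩ := sz_conj_rel N A U (hnorm A) hAcop (Or.inr hsolv) hB hcard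
  refine ⟨k⁻¹, ?_⟩
  rintro _ ⟨u, hu, rfl⟩
  rw [SetLike.mem_coe, ← hk, mem_conj_smul_iff] at hu
  have : (MulAut.conj k⁻¹).toMonoidHom u = k⁻¹ * u * k := by simp
  rw [this]
  exact hu.2

theorem IsPCompl.map_mk' {G : Type*} [Group G] [Finite G] {p : ℕ} [hp : Fact p.Prime]
    {H : Subgroup G} (hH : IsPCompl p H) (N : Subgroup G) [N.Normal] :
    IsPCompl p (H.map (QuotientGroup.mk' N)) := by
  obtain ⟨h1, n, hn⟩ := hH
  refine ⟨Nat.Coprime.of_dvd_left (Subgroup.card_map_dvd H _) h1, ?_⟩
  have h2 : (H.map (QuotientGroup.mk' N)).index ∣ p ^ n := by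
    rw [← hn]
    exact Subgroup.index_map_dvd H (QuotientGroup.mk'_surjective N)
  obtain ⟨k, -, hk⟩ := (Nat.dvd_prime_pow hp.out).mp h2
  exact ⟨k, hk⟩

theorem pCompl_main {p : ℕ} [hp : Fact p.Prime] (n : ℕ) : ∀ (G : Type u) [Group G] [Finite G],
    Nat.card G = n → IsPSolvable p G →
    (∃ H : Subgroup G, IsPCompl p H) ∧
    (∀ H U : Subgroup G, IsPCompl p H → (Nat.card U).Coprime p →
      ∃ g : G, U.map (MulAut.conj g).toMonoidHom ≤ H) := by
  induction n using Nat.strong_induction_on with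
  | _ n ih =>
  intro G _ _ hn hG
  rcases subsingleton_or_nontrivial G with hs | hnt
  · refine ⟨⟨⊤, ?_, 0, ?_⟩, ?_⟩
    · rw [Subgroup.card_top, Nat.card_of_subsingleton (1 : G)]
      exact Nat.coprime_one_left p
    · simp
    · intro H U _ _
      refine ⟨1, ?_⟩
      intro x _
      rw [Subsingleton.elim x 1]
      exact H.one_mem
  obtain ⟨N, hN, hN0, hNp⟩ := exists_normal_of_isPSolvable hG
  have hlt : Nat.card (G ⧸ N) < n := hn ▸ card_quotient_lt_of_ne_bot hN0
  obtain ⟨⟨Hb, hHb1, m, hHb2⟩, hD⟩ := ih _ hlt (G ⧸ N) rfl (isPSolvable_quotient N hG)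
  constructor
  · -- existence
    set K : Subgroup G := Hb.comap (QuotientGroup.mk' N) with hK
    have hKcard : Nat.card K = Nat.card Hb * Nat.card N := by
      rw [hK, card_comap_of_surjective (QuotientGroup.mk'_surjective N), QuotientGroup.ker_mk']
    have hKidx : K.index = p ^ m := by
      rw [hK, Subgroup.index_comap_of_surjective _ (QuotientGroup.mk'_surjective N), hHb2]
    rcases hNp with hNp | hNp
    · obtain ⟨a, ha⟩ := IsPGroup.iff_card.mp hNp
      have hNK : N ≤ K := by
        rw [hK]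
        conv_lhs => rw [← QuotientGroup.ker_mk' N]
        exact MonoidHom.ker_le_comap _ _
      have hN' : (N.subgroupOf K).Normal := inferInstance
      have hc1 : Nat.card (N.subgroupOf K) = p ^ a := by rw [card_subgroupOf hNK, ha]
      have hc2 : (N.subgroupOf K).index = Nat.card Hb := by
        have h1 := Subgroup.card_mul_index (N.subgroupOf K)
        rw [hc1, hKcard, ha, mul_comm] at h1
        exact Nat.eq_of_mul_eq_mul_right (pow_pos hp.out.pos a) h1
      obtain ⟨H', hH'⟩ := Subgroup.exists_right_complement'_of_coprime (N := N.subgroupOf K)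
        (by rw [hc1, hc2]; exact (Nat.Coprime.pow_right a hHb1).symm)
      have hc3 : Nat.card H' = Nat.card Hb := by
        rw [card_eq_index_of_isComplement' hH', hc2]
      have hc4 : Nat.card (H'.map K.subtype) = Nat.card Hb := by
        rw [Subgroup.card_map_of_injective K.subtype_injective, hc3]
      refine ⟨H'.map K.subtype, by rw [hc4]; exact hHb1, a + m, ?_⟩
      have h1 := Subgroup.card_mul_index (H'.map K.subtype)
      have h2 := Subgroup.card_mul_index K
      rw [hc4, ← h2, hKcard, hKidx, ha, mul_assoc, ← pow_add] at h1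
      exact Nat.eq_of_mul_eq_mul_left Nat.card_pos h1
    · refine ⟨K, ?_, m, hKidx⟩
      rw [hKcard]
      exact Nat.Coprime.mul_left hHb1 hNp
  · -- dominance
    intro H U hH hU
    obtain ⟨gb, hgb⟩ := hD (H.map (QuotientGroup.mk' N)) (U.map (QuotientGroup.mk' N))
      (hH.map_mk' N) (Nat.Coprime.of_dvd_left (Subgroup.card_map_dvd U _) hU)
    obtain ⟨g, rfl⟩ := QuotientGroup.mk'_surjective N gb
    have h1 : U.map (MulAut.conj g).toMonoidHom ≤ H ⊔ N := by
      rintro _ ⟨u, hu, rfl⟩
      have h2 : (QuotientGroup.mk' N) ((MulAut.conj g).toMonoidHom u) ∈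
          H.map (QuotientGroup.mk' N) := by
        apply hgb
        refine ⟨QuotientGroup.mk' N u, ⟨u, hu, rfl⟩, ?_⟩
        simp [MulAut.conj_apply]
      rw [← Subgroup.mem_comap, Subgroup.comap_map_eq, QuotientGroup.ker_mk'] at h2
      exact h2
    have hU' : (Nat.card (U.map (MulAut.conj g).toMonoidHom)).Coprime p := by
      rw [Subgroup.card_map_of_injective (MulAut.conj g).injective]
      exact hU
    rcases hNp with hNp | hNp
    · obtain ⟨x, hx⟩ := exists_conj_le_of_le_sup N H _ hNp hH.1 hU' h1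
      refine ⟨x * g, ?_⟩
      rintro _ ⟨u, hu, rfl⟩
      have := hx ⟨_, ⟨u, hu, rfl⟩, rfl⟩
      simpa [MulAut.conj_apply, mul_assoc] using this
    · refine ⟨g, h1.trans ?_⟩
      rw [← Subgroup.relIndex_eq_one]
      obtain ⟨k, hk⟩ := hH.2
      have h2 : H.relIndex (H ⊔ N) ∣ p ^ k := by
        rw [← hk]
        exact Subgroup.relIndex_dvd_index_of_le le_sup_left
      have h3 : H.relIndex (H ⊔ N) ∣ Nat.card H * Nat.card N :=
        (Subgroup.relIndex_dvd_card _ _).trans
          (card_sup_dvd (by rw [Subgroup.normalizer_eq_top_iff.mpr hN]; exact le_top))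
      have h4 : (Nat.card H * Nat.card N).Coprime (p ^ k) :=
        Nat.Coprime.pow_right _ (Nat.Coprime.mul_left hH.1 hNp)
      exact Nat.eq_one_of_dvd_coprimes h4 h3 h2

theorem IsPCompl.card_eq {G : Type*} [Group G] [Finite G] {p : ℕ} {H₁ H₂ : Subgroup G}
    (h₁ : IsPCompl p H₁) (h₂ : IsPCompl p H₂) : Nat.card H₁ = Nat.card H₂ := by
  obtain ⟨c1, n1, i1⟩ := h₁
  obtain ⟨c2, n2, i2⟩ := h₂
  have e1 := Subgroup.card_mul_index H₁
  have e2 := Subgroup.card_mul_index H₂
  rw [i1] at e1
  rw [i2] at e2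
  apply Nat.dvd_antisymm
  · apply (Nat.Coprime.pow_right n2 c1).dvd_of_dvd_mul_right
    rw [e2, ← e1]
    exact Dvd.intro _ rfl
  · apply (Nat.Coprime.pow_right n1 c2).dvd_of_dvd_mul_right
    rw [e1, ← e2]
    exact Dvd.intro _ rfl

end Cfsg.Agent.Lib.Helper62
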