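import Mathlib
import Cfsg.Agent.Lib.Helper62.SL23c

/-!
# More on `SL(2,3)` recognition
-/

set_option autoImplicit false

namespace Cfsg.Agent.Lib.Helper62

variable {X : Type*} [Group X]

/-- A subgroup of a generalized quaternion group admitting a nontrivial action of an element of odd order is
quaternion of order eight. -/
theorem q8_of_odd_action [Finite X] {Q : Subgroup X} (hQ : IsPGroup 2 Q) {n : ℕ}
    (ψ : Q →* QuaternionGroup (2 ^ n)) (hψ : Function.Injective ψ) {g : X}
    (hgN : g ∈ Subgroup.normalizer (Q : Set X)) (hgC : g ∉ Subgroup.centralizer (Q : Set X))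
    (hodd : Odd (orderOf g)) : Nonempty (Q ≃* QuaternionGroup 2) := by
  have e2 := MonoidHom.ofInjective hψ
  rcases Helper5.subgroup_quaternionGroup_two_pow n ψ.range with h | ⟨j, hj, ⟨e3⟩⟩
  · exfalso
    have hcyc : IsCyclic Q := isCyclic_of_surjective e2.symm e2.symm.surjective
    exact hgC (Helper55.mem_centralizer_of_odd_of_cyclic Q hcyc hQ g hgN hodd)
  · obtain rfl | hj2 : j = 1 ∨ 2 ≤ j := by omega
    · exact ⟨e2.trans e3⟩
    · exfalso
      obtain ⟨k, rfl⟩ : ∃ k, j = k + 2 := ⟨j - 2, by omega⟩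
      obtain ⟨α, hα⟩ := Helper55.quatLike_of_equiv Q k (e2.trans e3)
      exact hgC (mem_centralizer_of_quatLike hα hgN hodd)

/-- `Q⟨g⟩ ≅ SL(2,3)` for `Q` quaternion of order eight and `g` of order three acting nontrivially. -/
theorem nonempty_sup_equiv_SL23 {Q : Subgroup X} (e : Q ≃* QuaternionGroup 2) {g : X}
    (hgN : g ∈ Subgroup.normalizer (Q : Set X)) (hgC : g ∉ Subgroup.centralizer (Q : Set X))
    (hg : g ^ 3 = 1) :
    Nonempty (↥(Q ⊔ Subgroup.zpowers g) ≃* Matrix.SpecialLinearGroup (Fin 2) (ZMod 3)) := by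
  obtain ⟨H, hH⟩ : ∃ H, H = Q ⊔ Subgroup.zpowers g := ⟨_, rfl⟩
  rw [← hH]
  have hQH : Q ≤ H := hH ▸ le_sup_left
  have hgH : g ∈ H := hH ▸ (le_sup_right : Subgroup.zpowers g ≤ _) (Subgroup.mem_zpowers g)
  have e' : Q.subgroupOf H ≃* QuaternionGroup 2 := (Subgroup.subgroupOfEquivOfLe hQH).trans e
  apply nonempty_equiv_SL23_of_q8 (X := H) e' (g := ⟨g, hgH⟩)
  · rw [Subgroup.mem_normalizer_iff]
    intro x
    rw [Subgroup.mem_subgroupOf, Subgroup.mem_subgroupOf]
    exact (Subgroup.mem_normalizer_iff.1 hgN) x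
  · intro hc
    apply hgC
    rw [Subgroup.mem_centralizer_iff]
    intro q hq
    have := (Subgroup.mem_centralizer_iff.1 hc) ⟨q, hQH hq⟩ (by
      change _ ∈ Q.subgroupOf H
      rw [Subgroup.mem_subgroupOf]; exact hq)
    exact congrArg Subtype.val this
  · exact Subtype.ext hg
  · apply Subgroup.map_injective H.subtype_injective
    rw [Subgroup.map_sup, Subgroup.subgroupOf_map_subtype, MonoidHom.map_zpowers,
      ← MonoidHom.range_eq_map, Subgroup.range_subtype, inf_eq_left.2 hQH]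
    exact hH.symm

end Cfsg.Agent.Lib.Helper62
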