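/-
Pieces (N6), (N7) of helper10's BG 14.7 n-gon farm (#877).
-/
import Cfsg.Agent.Lib.Helper10.BG147c

set_option autoImplicit false

namespace Cfsg.Agent.Lib.Helper62.BG147N

open Subgroup Cfsg
open Cfsg.Agent.Lib
open Cfsg.Agent.Lib.Helper24 Cfsg.Agent.Lib.Helper34 Cfsg.Agent.Lib.Helper31.BG11
open Cfsg.Agent.Lib.Helper10.BG147

universe u

variable {G : Type u} [Group G] [Finite G]

/-- (N6) -/
theorem card_of_P1 (hG : IsMinSimpleOddOrder G) {N K : Subgroup G} (h : KP N K)
    (hP1 : ∀ r : ℕ, r.Prime → r ∣ Nat.card N → r ∈ sigma N ∨ r ∈ kappa N) :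
    Nat.card N = Nat.card (sigmaCore N) * Nat.card K := by
  have hU := Cfsg.Agent.Lib.Helper10.BG124.ut hG
  have hKσ : (Nat.card K).Coprime (Nat.card (sigmaCore N)) := by
    apply Nat.coprime_of_dvd
    intro r hr h1 h2
    exact (h.hall.2.1 r hr h1).2.2.1 (sc_primes N hr h2)
  have h1 : Nat.card (K ⊔ sigmaCore N : Subgroup G) = Nat.card K * Nat.card (sigmaCore N) :=
    Helper1.card_sup_of_disjoint (h.hall.1.trans (sc_norm N))
      (Subgroup.disjoint_of_coprime_natCard hKσ)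
  have hLN : K ⊔ sigmaCore N ≤ N := sup_le h.hall.1 (sc_le N)
  have hrel : (K ⊔ sigmaCore N).relIndex N = 1 := by
    by_contra hne
    obtain ⟨r, hr, hd⟩ := Nat.exists_prime_and_dvd hne
    have hrN : r ∣ Nat.card N := by
      rw [← Helper1.relIndex_mul_card hLN]
      exact Dvd.dvd.mul_right hd _
    rcases hP1 r hr hrN with hs | hk
    · apply (sc_hall hG hU h.coatom).2.2 r hr hs
      rw [← relIndex_mul_relIndex _ _ _ le_sup_right hLN]
      exact Dvd.dvd.mul_left hd _
    · apply h.hall.2.2 r hr hk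
      rw [← relIndex_mul_relIndex _ _ _ le_sup_left hLN]
      exact Dvd.dvd.mul_left hd _
  rw [← Helper1.relIndex_mul_card hLN, hrel, one_mul, h1, mul_comm]

/-- (N7) -/
theorem three_mul_le (hG : IsMinSimpleOddOrder G) {N K : Subgroup G} (h : KP N K) :
    3 * Nat.card (ks N K) ≤ Nat.card (sigmaCore N) := by
  have hle : ks N K ≤ sigmaCore N := inf_le_left
  have hne1 : Nat.card (ks N K) ≠ 1 := fun hc => h.ks_ne_bot hG (card_eq_one.mp hc)
  obtain ⟨q, hq, hd⟩ := Nat.exists_prime_and_dvd hne1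
  have : Fact q.Prime := ⟨hq⟩
  obtain ⟨S⟩ : Nonempty (Sylow q ↥(sigmaCore N)) := inferInstance
  have hS := (h.syl q hq hd S).2.2
  have hrel : (ks N K).relIndex (sigmaCore N) ≠ 1 := by
    intro hc
    apply hS
    have : sigmaCore N ≤ ks N K := relIndex_eq_one.mp hc
    refine le_trans ?_ this
    rintro _ ⟨x, -, rfl⟩
    exact x.2
  have hmul := Helper1.relIndex_mul_card hle
  have hodd : Odd ((ks N K).relIndex (sigmaCore N)) := by
    have := MS_odd hG (sigmaCore N)
    rw [← hmul] at this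
    exact (Nat.odd_mul.mp this).1
  have h3 : 3 ≤ (ks N K).relIndex (sigmaCore N) := by
    obtain ⟨m, hm⟩ := hodd
    omega
  rw [← hmul]
  exact Nat.mul_le_mul_right _ h3

end Cfsg.Agent.Lib.Helper62.BG147N
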