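import Cfsg.Agent.Lib.Helper62.Generation
import Cfsg.Agent.Lib.Helper62.Basic
import Cfsg.Agent.Lib.Helper24.Basic
import Cfsg.Agent.Lib.Helper22.CoprimeP
import Cfsg.Agent.Lib.Helper1.Tools
import Cfsg.Agent.Lib.Helper91.Subnormal

/-!
# Thompson's dihedral lemma: elementary abelian 2-groups acting faithfully on nilpotent groups
of odd order
-/

set_option autoImplicit false

namespace Cfsg.Agent.Lib.Helper62

open Cfsg.Agent.Lib.Helper24 Cfsg.Agent.Lib.Helper22 Cfsg.Agent.Lib.Helper1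

variable {X : Type*} [Group X]

/-- A version of Thompson's `A × B` lemma for nilpotent groups: if `A` acts coprimely on the
nilpotent group `F` and centralizes `D ≤ F` and `C_F(D)`, then `A` centralizes `F`. -/
theorem le_centralizer_of_nilpotent [Finite X] (F A D : Subgroup X) (hF : Group.IsNilpotent ↥F)
    (hAF : A ≤ Subgroup.normalizer (F : Set X)) (hcop : (Nat.card A).Coprime (Nat.card F))
    (hDF : D ≤ F) (hDA : D ≤ Subgroup.centralizer (A : Set X))
    (hfix : F ⊓ Subgroup.centralizer (D : Set X) ≤ Subgroup.centralizer (A : Set X)) :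
    F ≤ Subgroup.centralizer (A : Set X) := by
  by_contra hne
  set C : Subgroup X := F ⊓ Subgroup.centralizer (A : Set X) with hC
  have hCF : C < F := by
    refine lt_of_le_of_ne inf_le_left ?_
    intro h
    exact hne (h ▸ inf_le_right)
  obtain ⟨y, hyF, hyN, hyC⟩ := exists_mem_normalizer_not_mem hF hCF
  set N : Subgroup X := F ⊓ Subgroup.normalizer (C : Set X) with hN
  have hAC : A ≤ Subgroup.centralizer (C : Set X) :=
    Subgroup.le_centralizer_iff.1 inf_le_right
  have hAN : A ≤ Subgroup.normalizer (N : Set X) := by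
    refine le_normalizer_inf hAF ?_
    exact (hAC.trans (Subgroup.centralizer_le_normalizer _)).trans Subgroup.le_normalizer
  have hcopN : (Nat.card A).Coprime (Nat.card N) :=
    Nat.Coprime.coprime_dvd_right (Subgroup.card_dvd_of_le inf_le_left) hcop
  have hCA : ⁅C, A⁆ = ⊥ := Subgroup.commutator_eq_bot_iff_le_centralizer.2 inf_le_right
  have h3 : ⁅⁅N, A⁆, C⁆ = ⊥ := by
    apply Subgroup.commutator_commutator_eq_bot_of_rotate
    · rw [Subgroup.commutator_comm A C, hCA, Subgroup.commutator_bot_left]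
    · have : ⁅C, N⁆ ≤ C := Subgroup.le_normalizer_iff_commutator_le_left.1 inf_le_right
      rw [eq_bot_iff, ← hCA]
      exact Subgroup.commutator_mono this le_rfl
  have hNAF : ⁅N, A⁆ ≤ F :=
    (Subgroup.commutator_mono inf_le_left le_rfl).trans
      (Subgroup.le_normalizer_iff_commutator_le_left.1 hAF)
  have hDC : D ≤ C := le_inf hDF hDA
  have h4 : ⁅N, A⁆ ≤ Subgroup.centralizer (A : Set X) := by
    refine le_trans (le_inf hNAF ?_) hfix
    exact (Subgroup.commutator_eq_bot_iff_le_centralizer.1 h3).trans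
      (Subgroup.centralizer_le hDC)
  have h5 : ⁅N, A⁆ = ⊥ := commutator_eq_bot_of_coprime hAN hcopN
    (Subgroup.commutator_eq_bot_iff_le_centralizer.2 h4)
  exact hyC ⟨hyF, Subgroup.commutator_eq_bot_iff_le_centralizer.1 h5 ⟨hyF, hyN⟩⟩

/-- An involution `t` of an elementary abelian 2-group `I` acting non-trivially on the `I`-invariant
group `F` of odd order inverts an element `x` of prime order of `F` which every element of `I`
centralizes or inverts. -/
theorem exists_inverted_of_not_centralizes [Finite X] (I F : Subgroup X) (hI : IsMulCommutative I)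
    (hI2 : ∀ a ∈ I, a ^ 2 = 1) (hIF : I ≤ Subgroup.normalizer (F : Set X))
    (hodd : Odd (Nat.card F)) (t : X) (ht : t ∈ I)
    (htF : t ∉ Subgroup.centralizer (F : Set X)) :
    ∃ x ∈ F, (orderOf x).Prime ∧ t * x * t⁻¹ = x⁻¹ ∧
      ∀ s ∈ I, s * x * s⁻¹ = x ∨ s * x * s⁻¹ = x⁻¹ := by
  have hIcomm : ∀ a ∈ I, ∀ b ∈ I, a * b = b * a := fun a ha b hb =>
    congrArg Subtype.val (mul_comm' (⟨a, ha⟩ : ↥I) ⟨b, hb⟩)
  have hI2g : IsPGroup 2 I := by
    intro a
    refine ⟨1, ?_⟩
    apply Subtype.ext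
    simpa using hI2 a a.2
  have hcop : (Nat.card I).Coprime (Nat.card F) := by
    obtain ⟨k, hk⟩ := hI2g.exists_card_eq
    rw [hk]
    exact Nat.Coprime.pow_left k (Nat.coprime_two_left.2 hodd)
  have hgen := genCent_eq I F hI hIF hcop
  -- some `C_F(B)` is not centralized by `t`
  obtain ⟨B, hB, htB⟩ : ∃ B ∈ cycQuot I,
      ¬ (F ⊓ Subgroup.centralizer (B : Set X) ≤ Subgroup.centralizer (Subgroup.zpowers t : Set X)) := by
    by_contra hcon
    push Not at hcon
    apply htF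
    have h1 : F ≤ Subgroup.centralizer (Subgroup.zpowers t : Set X) := by
      rw [← hgen]
      exact iSup₂_le hcon
    exact Subgroup.le_centralizer_iff.1 h1 (Subgroup.mem_zpowers t)
  obtain ⟨hBI, a, haI, hBa⟩ := hB
  obtain ⟨y, hy, hyt⟩ := SetLike.not_le_iff_exists.1 htB
  have hyt' : t * y ≠ y * t := by
    intro h
    apply hyt
    rw [centralizer_zpowers, Subgroup.mem_centralizer_singleton_iff]
    exact h.symm
  have htt : t * t = 1 := by rw [← sq]; exact hI2 t ht
  have htinv : t⁻¹ = t := inv_eq_of_mul_eq_one_left htt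
  obtain ⟨w, hw⟩ : ∃ w, w = y⁻¹ * (t * y * t⁻¹) := ⟨_, rfl⟩
  have hw1 : w ≠ 1 := by
    intro h
    rw [hw, inv_mul_eq_one, eq_mul_inv_iff_mul_eq] at h
    exact hyt' h.symm
  have hwF : w ∈ F := by
    rw [hw]
    exact F.mul_mem (F.inv_mem hy.1) ((Subgroup.mem_normalizer_iff.1 (hIF ht) y).1 hy.1)
  have hwB : w ∈ Subgroup.centralizer (B : Set X) := by
    rw [hw]
    have htC : t ∈ Subgroup.centralizer (B : Set X) := by
      rw [Subgroup.mem_centralizer_iff]
      intro b hb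
      exact hIcomm b (hBI hb) t ht
    exact mul_mem (inv_mem hy.2) (mul_mem (mul_mem htC hy.2) (inv_mem htC))
  have hwt : t * w * t⁻¹ = w⁻¹ := by
    rw [hw]
    simp only [mul_inv_rev, inv_inv, htinv, mul_assoc]
    rw [htt, mul_one]
  have hq : ((orderOf w).minFac).Prime := Nat.minFac_prime (by rwa [Ne, orderOf_eq_one_iff])
  refine ⟨w ^ (orderOf w / (orderOf w).minFac), F.pow_mem hwF _, ?_, ?_, ?_⟩
  · rw [orderOf_pow_orderOf_div (orderOf_pos w).ne' (Nat.minFac_dvd _)]
    exact hq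
  · rw [← conj_pow, hwt, inv_pow]
  obtain ⟨x, hx⟩ : ∃ x, x = w ^ (orderOf w / (orderOf w).minFac) := ⟨_, rfl⟩
  rw [← hx]
  have hxB : x ∈ Subgroup.centralizer (B : Set X) := by rw [hx]; exact pow_mem hwB _
  have hxt : t * x * t⁻¹ = x⁻¹ := by rw [hx, ← conj_pow, hwt, inv_pow]
  have haa : a * a = 1 := by rw [← sq]; exact hI2 a haI
  have hsplit : ∀ s ∈ I, s ∈ B ∨ s * a ∈ B := by
    intro s hs
    rw [← hBa, mem_sup_of_le_comm hI hBI (by rwa [Subgroup.zpowers_le])] at hs
    obtain ⟨b, hb, c, hc, rfl⟩ := hs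
    obtain ⟨k, rfl⟩ := Subgroup.mem_zpowers_iff.1 hc
    have h2 : ∀ j : ℤ, a ^ (2 * j) = 1 := by
      intro j
      rw [zpow_mul, zpow_ofNat, sq, haa, one_zpow]
    rcases Int.even_or_odd' k with ⟨j, rfl | rfl⟩
    · left
      rwa [h2, mul_one]
    · right
      rwa [zpow_add_one, h2, one_mul, mul_assoc, haa, mul_one]
  have htB' : t ∉ B := fun h => hyt' (Subgroup.mem_centralizer_iff.1 hy.2 t h)
  have hta : t * a ∈ B := (hsplit t ht).resolve_left htB'
  intro s hs
  rcases hsplit s hs with h | h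
  · left
    rw [mul_inv_eq_iff_eq_mul]
    exact Subgroup.mem_centralizer_iff.1 hxB s h
  · right
    have hst : s * t ∈ B := by
      have : s * t = (s * a) * (t * a) := by
        rw [hIcomm t ht a haI, mul_assoc, ← mul_assoc a a t, haa, one_mul]
      rw [this]
      exact B.mul_mem h hta
    have h1 : s * x⁻¹ * s⁻¹ = x := by
      have h2 : s * (t * x * t⁻¹) * s⁻¹ = x := by
        have h := Subgroup.mem_centralizer_iff.1 hxB (s * t) hst
        calc s * (t * x * t⁻¹) * s⁻¹ = ((s * t) * x) * (s * t)⁻¹ := by group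
          _ = x := by rw [h]; group
      rwa [hxt] at h2
    calc s * x * s⁻¹ = (s * x⁻¹ * s⁻¹)⁻¹ := by group
      _ = x⁻¹ := by rw [h1]

theorem iSup_fin_cons {m : ℕ} (A : Subgroup X) (f : Fin m → Subgroup X) :
    ⨆ i, (Fin.cons A f : Fin (m + 1) → Subgroup X) i = A ⊔ ⨆ i, f i := by
  apply le_antisymm
  · refine iSup_le (Fin.cases ?_ fun i => ?_)
    · rw [Fin.cons_zero]
      exact le_sup_left
    · rw [Fin.cons_succ]
      exact le_sup_of_le_right (le_iSup f i)
  · refine sup_le ?_ (iSup_le fun i => ?_)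
    · exact le_iSup_of_le 0 (by rw [Fin.cons_zero])
    · exact le_iSup_of_le i.succ (by rw [Fin.cons_succ])

/-- The core of Thompson's dihedral lemma. -/
theorem dihedral_core [Finite X] (I : Subgroup X) (hI : IsMulCommutative I)
    (hI2 : ∀ a ∈ I, a ^ 2 = 1) (m : ℕ) : ∀ (J F : Subgroup X), J ≤ I → Nat.card J = 2 ^ m →
    Group.IsNilpotent ↥F → Odd (Nat.card F) → I ≤ Subgroup.normalizer (F : Set X) →
    J ⊓ Subgroup.centralizer (F : Set X) = ⊥ →
    ∃ f : Fin m → Subgroup X, (∀ i, (Nat.card ↥(f i)).Prime) ∧ (∀ i, f i ≤ F) ∧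
      (∀ i, ∀ s ∈ I, (∀ a ∈ f i, s * a * s⁻¹ = a) ∨ (∀ a ∈ f i, s * a * s⁻¹ = a⁻¹)) ∧
      (∀ i j, i ≠ j → ∀ a ∈ f i, ∀ b ∈ f j, a * b = b * a) ∧
      Nat.card ↥(⨆ i, f i) = ∏ i, Nat.card ↥(f i) ∧
      J ⊓ Subgroup.centralizer ((⨆ i, f i : Subgroup X) : Set X) = ⊥ ∧
      (⨆ i, f i) ⊓ Subgroup.centralizer (J : Set X) = ⊥ := by
  induction m with
  | zero =>
    intro J F hJI hJ _ _ _ _
    refine ⟨Fin.elim0, fun i => i.elim0, fun i => i.elim0, fun i => i.elim0, fun i => i.elim0,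
      ?_, ?_, ?_⟩
    · simp
    · rw [pow_zero, Subgroup.card_eq_one] at hJ
      rw [hJ, bot_inf_eq]
    · simp
  | succ m ih =>
    intro J F hJI hJ hFn hFodd hIF hJF
    have hJne : J ≠ ⊥ := by
      intro h
      rw [h, Subgroup.card_bot] at hJ
      have : 2 ∣ 1 := by rw [hJ]; exact dvd_pow_self 2 (Nat.succ_ne_zero m)
      omega
    obtain ⟨t, htJ, ht1⟩ : ∃ t ∈ J, t ≠ 1 := by
      by_contra hcon
      push Not at hcon
      exact hJne ((Subgroup.eq_bot_iff_forall J).2 hcon)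
    have htF : t ∉ Subgroup.centralizer (F : Set X) := fun h =>
      ht1 (Subgroup.mem_bot.1 (hJF ▸ (⟨htJ, h⟩ : t ∈ J ⊓ Subgroup.centralizer (F : Set X))))
    obtain ⟨x, hxF, hxq, hxt, hxI⟩ :=
      exists_inverted_of_not_centralizes I F hI hI2 hIF hFodd t (hJI htJ) htF
    have hsq : ∀ a ∈ F, a⁻¹ = a → a = 1 := by
      intro a ha h
      have h1 : orderOf a ∣ 2 := by
        apply orderOf_dvd_of_pow_eq_one
        rw [sq]
        nth_rw 1 [← h]
        exact inv_mul_cancel a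
      have h2 : orderOf a ∣ Nat.card F := Subgroup.orderOf_dvd_natCard F ha
      have h3 : orderOf a ∣ Nat.gcd 2 (Nat.card F) := Nat.dvd_gcd h1 h2
      rw [(Nat.coprime_two_left.2 hFodd).gcd_eq_one, Nat.dvd_one, orderOf_eq_one_iff] at h3
      exact h3
    have hx1 : x ≠ 1 := by
      rintro rfl
      rw [orderOf_one] at hxq
      exact Nat.not_prime_one hxq
    have hxne : x⁻¹ ≠ x := fun h => hx1 (hsq x hxF h)
    obtain ⟨A₁, hA₁⟩ : ∃ A₁, A₁ = Subgroup.zpowers x := ⟨_, rfl⟩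
    have hA₁card : Nat.card A₁ = orderOf x := by rw [hA₁]; exact Nat.card_zpowers x
    have hA₁F : A₁ ≤ F := by rwa [hA₁, Subgroup.zpowers_le]
    have hact : ∀ s ∈ I, (∀ a ∈ A₁, s * a * s⁻¹ = a) ∨ (∀ a ∈ A₁, s * a * s⁻¹ = a⁻¹) := by
      intro s hs
      rcases hxI s hs with h | h
      · left
        intro a ha
        rw [hA₁] at ha
        obtain ⟨k, rfl⟩ := Subgroup.mem_zpowers_iff.1 ha
        rw [← conj_zpow, h]
      · right
        intro a ha
        rw [hA₁] at ha
        obtain ⟨k, rfl⟩ := Subgroup.mem_zpowers_iff.1 ha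
        rw [← conj_zpow, h, inv_zpow]
    have hIA₁ : I ≤ Subgroup.normalizer (A₁ : Set X) := by
      rw [Subgroup.le_normalizer_iff]
      intro s hs a ha
      rcases hact s hs with h | h
      · rw [h a ha]; exact ha
      · rw [h a ha]; exact inv_mem ha
    have hcen : ∀ s, s ∈ Subgroup.centralizer (A₁ : Set X) ↔ s * x * s⁻¹ = x := by
      intro s
      rw [hA₁, centralizer_zpowers, Subgroup.mem_centralizer_singleton_iff, mul_inv_eq_iff_eq_mul]
    obtain ⟨J₁, hJ₁⟩ : ∃ J₁, J₁ = J ⊓ Subgroup.centralizer (A₁ : Set X) := ⟨_, rfl⟩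
    have hJ₁J : J₁ ≤ J := hJ₁ ▸ inf_le_left
    have hJ₁A₁ : J₁ ≤ Subgroup.centralizer (A₁ : Set X) := hJ₁ ▸ inf_le_right
    have hrel : J₁.relIndex J = 2 := by
      rw [Subgroup.relIndex_eq_two_iff]
      refine ⟨t, htJ, fun b hb => ?_⟩
      have hbt : (b * t) * x * (b * t)⁻¹ = (b * x * b⁻¹)⁻¹ := by
        calc (b * t) * x * (b * t)⁻¹ = b * (t * x * t⁻¹) * b⁻¹ := by group
          _ = (b * x * b⁻¹)⁻¹ := by rw [hxt]; group
      rw [hJ₁, Subgroup.mem_inf, Subgroup.mem_inf, hcen, hcen, hbt]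
      rcases hxI b (hJI hb) with h | h
      · right
        rw [h]
        exact ⟨⟨hb, rfl⟩, fun h' => hxne h'.2⟩
      · left
        rw [h, inv_inv]
        exact ⟨⟨J.mul_mem hb htJ, rfl⟩, fun h' => hxne h'.2⟩
    have hJ₁card : Nat.card J₁ = 2 ^ m := by
      have h := relIndex_mul_card hJ₁J
      rw [hrel, hJ, pow_succ'] at h
      exact Nat.eq_of_mul_eq_mul_left (by norm_num) h
    obtain ⟨F₁, hF₁⟩ : ∃ F₁, F₁ = F ⊓ Subgroup.centralizer (A₁ : Set X) := ⟨_, rfl⟩
    have hF₁F : F₁ ≤ F := hF₁ ▸ inf_le_left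
    have hF₁A₁ : F₁ ≤ Subgroup.centralizer (A₁ : Set X) := hF₁ ▸ inf_le_right
    have hF₁n : Group.IsNilpotent ↥F₁ := Cfsg.Agent.Lib.Helper91.isNilpotent_of_le hF₁F hFn
    have hF₁odd : Odd (Nat.card F₁) := Odd.of_dvd_nat hFodd (Subgroup.card_dvd_of_le hF₁F)
    have hIF₁ : I ≤ Subgroup.normalizer (F₁ : Set X) := by
      rw [hF₁]
      exact le_normalizer_inf_centralizer hIF hIA₁
    have hJ₁F₁ : J₁ ⊓ Subgroup.centralizer (F₁ : Set X) = ⊥ := by
      rw [eq_bot_iff, ← hJF]
      refine le_inf (inf_le_left.trans hJ₁J) ?_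
      apply Subgroup.le_centralizer_iff.1
      apply le_centralizer_of_nilpotent F _ A₁ hFn
        (((inf_le_left.trans hJ₁J).trans hJI).trans hIF) ?_ hA₁F
        (Subgroup.le_centralizer_iff.1 (inf_le_left.trans hJ₁A₁))
      · rw [← hF₁]
        exact Subgroup.le_centralizer_iff.1 inf_le_right
      · have h1 : Nat.card ↥(J₁ ⊓ Subgroup.centralizer (F₁ : Set X)) ∣ 2 ^ (m + 1) := by
          rw [← hJ]
          exact Subgroup.card_dvd_of_le (inf_le_left.trans hJ₁J)
        exact Nat.Coprime.coprime_dvd_left h1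
          (Nat.Coprime.pow_left _ (Nat.coprime_two_left.2 hFodd))
    obtain ⟨f', h1, h2, h3, h4, h5, h6, h7⟩ := ih J₁ F₁ (hJ₁J.trans hJI) hJ₁card hF₁n hF₁odd
      hIF₁ hJ₁F₁
    obtain ⟨W, hW⟩ : ∃ W, W = ⨆ i, f' i := ⟨_, rfl⟩
    rw [← hW] at h5 h6 h7
    have hWF₁ : W ≤ F₁ := by rw [hW]; exact iSup_le h2
    have hWA₁ : W ≤ Subgroup.centralizer (A₁ : Set X) := hWF₁.trans hF₁A₁
    have hdisj : A₁ ⊓ W = ⊥ := by
      rw [eq_bot_iff, ← h7]
      exact le_inf inf_le_right (inf_le_left.trans (Subgroup.le_centralizer_iff.1 hJ₁A₁))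
    have hA₁W : A₁ ≤ Subgroup.normalizer (W : Set X) :=
      (Subgroup.le_centralizer_iff.1 hWA₁).trans (Subgroup.centralizer_le_normalizer _)
    refine ⟨Fin.cons A₁ f', ?_, ?_, ?_, ?_, ?_, ?_, ?_⟩
    · refine Fin.cases ?_ fun i => ?_
      · rw [Fin.cons_zero, hA₁card]; exact hxq
      · rw [Fin.cons_succ]; exact h1 i
    · refine Fin.cases ?_ fun i => ?_
      · rw [Fin.cons_zero]; exact hA₁F
      · rw [Fin.cons_succ]; exact (h2 i).trans hF₁F
    · refine Fin.cases ?_ fun i => ?_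
      · rw [Fin.cons_zero]; exact hact
      · rw [Fin.cons_succ]; exact h3 i
    · have hc : ∀ i, ∀ a ∈ A₁, ∀ b ∈ f' i, a * b = b * a := by
        intro i a ha b hb
        exact Subgroup.mem_centralizer_iff.1 (hF₁A₁ (h2 i hb)) a ha
      refine Fin.cases ?_ fun i => ?_
      · refine Fin.cases ?_ fun j => ?_
        · intro h; exact absurd rfl h
        · intro _ a ha b hb
          rw [Fin.cons_zero] at ha
          rw [Fin.cons_succ] at hb
          exact hc j a ha b hb
      · refine Fin.cases ?_ fun j => ?_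
        · intro _ a ha b hb
          rw [Fin.cons_zero] at hb
          rw [Fin.cons_succ] at ha
          exact (hc i b hb a ha).symm
        · intro hij a ha b hb
          rw [Fin.cons_succ] at ha hb
          exact h4 i j (fun h => hij (congrArg Fin.succ h)) a ha b hb
    · rw [iSup_fin_cons, ← hW, card_sup_of_disjoint hA₁W (disjoint_iff.2 hdisj), Fin.prod_univ_succ,
        h5]
      simp only [Fin.cons_zero, Fin.cons_succ]
    · rw [iSup_fin_cons, ← hW, eq_bot_iff, ← h6, hJ₁]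
      refine le_inf (le_inf inf_le_left ?_) ?_
      · exact inf_le_right.trans (Subgroup.centralizer_le (le_sup_left : A₁ ≤ A₁ ⊔ W))
      · exact inf_le_right.trans (Subgroup.centralizer_le (le_sup_right : W ≤ A₁ ⊔ W))
    · rw [iSup_fin_cons, ← hW, eq_bot_iff]
      intro w hww
      obtain ⟨hw, hwJ⟩ := Subgroup.mem_inf.1 hww
      rw [mem_sup_of_le_normalizer hA₁W] at hw
      obtain ⟨a, ha, w', hw', rfl⟩ := hw
      rw [Subgroup.mem_centralizer_iff] at hwJ
      have hw1 : w' = 1 := by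
        have : w' ∈ W ⊓ Subgroup.centralizer (J₁ : Set X) := by
          refine Subgroup.mem_inf.2 ⟨hw', ?_⟩
          rw [Subgroup.mem_centralizer_iff]
          intro s hs
          have e1 := hwJ s (hJ₁J hs)
          have e2 : a * s = s * a := Subgroup.mem_centralizer_iff.1 (hJ₁A₁ hs) a ha
          rw [← mul_assoc, ← e2, mul_assoc, mul_assoc] at e1
          exact mul_left_cancel e1
        rw [h7] at this
        exact Subgroup.mem_bot.1 this
      rw [hw1, mul_one] at hwJ ⊢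
      rw [Subgroup.mem_bot]
      apply hsq a (hA₁F ha)
      have e1 := hwJ t htJ
      have e2 : t * a * t⁻¹ = a⁻¹ := by
        rw [hA₁] at ha
        obtain ⟨k, rfl⟩ := Subgroup.mem_zpowers_iff.1 ha
        rw [← conj_zpow, hxt, inv_zpow]
      rw [← e2, e1, mul_inv_cancel_right]

end Cfsg.Agent.Lib.Helper62
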