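import Cfsg.Agent.Lib.Helper62.Bar
import Cfsg.Agent.Lib.Helper62.Basic
import Cfsg.Agent.S0058

/-!
# Generation by centralizers of subgroups with cyclic quotient (coprime action of abelian groups)
-/

set_option autoImplicit false

namespace Cfsg.Agent.Lib.Helper62

universe u

/-- the subgroups `B` of `A` with `A/B` cyclic -/
def cycQuot {X : Type*} [Group X] (A : Subgroup X) : Set (Subgroup X) :=
  {B : Subgroup X | B ≤ A ∧ ∃ a ∈ A, B ⊔ Subgroup.zpowers a = A}

/-- `⟨C_G(B) | A/B cyclic⟩` -/
def genCent {X : Type*} [Group X] (A G : Subgroup X) : Subgroup X :=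
  ⨆ B ∈ cycQuot A, G ⊓ Subgroup.centralizer (B : Set X)

theorem genCent_le {X : Type*} [Group X] (A G : Subgroup X) : genCent A G ≤ G :=
  iSup₂_le fun _ _ => inf_le_left

theorem genCent_mono {X : Type*} [Group X] (A : Subgroup X) {G G' : Subgroup X} (h : G ≤ G') :
    genCent A G ≤ genCent A G' :=
  iSup₂_mono fun _ _ => inf_le_inf_right _ h

theorem le_genCent_aux (n : ℕ) : ∀ (X : Type u) [Group X] [Finite X] (A G : Subgroup X),
    Nat.card A + Nat.card G = n → IsMulCommutative A → A ≤ Subgroup.normalizer (G : Set X) →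
    (Nat.card A).Coprime (Nat.card G) → G ≤ genCent A G := by
  induction n using Nat.strong_induction_on with
  | _ n ih =>
  intro X _ _ A G hn hAab hAG hcop
  have hAcomm : ∀ a ∈ A, ∀ b ∈ A, a * b = b * a := fun a ha b hb =>
    congrArg Subtype.val (mul_comm' (⟨a, ha⟩ : ↥A) ⟨b, hb⟩)
  by_cases hcyc : IsCyclic ↥A
  · obtain ⟨g, hg⟩ := hcyc.exists_generator
    have h1 : Subgroup.zpowers (g : X) = A := by
      have h2 : Subgroup.zpowers g = ⊤ := (Subgroup.eq_top_iff' _).mpr hg
      have h3 := congrArg (Subgroup.map A.subtype) h2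
      rw [MonoidHom.map_zpowers, ← MonoidHom.range_eq_map, Subgroup.range_subtype] at h3
      exact h3
    have h2 : (⊥ : Subgroup X) ∈ cycQuot A := ⟨bot_le, g, g.2, by rw [bot_sup_eq, h1]⟩
    refine le_trans ?_ (le_iSup₂_of_le ⊥ h2 le_rfl)
    refine le_inf le_rfl ?_
    intro x _
    rw [Subgroup.mem_centralizer_iff]
    intro y hy
    rw [SetLike.mem_coe, Subgroup.mem_bot] at hy
    rw [hy, one_mul, mul_one]
  · have h58 := Cfsg.Agent.S0058.result A G hcyc hAG hcop
    conv_lhs => rw [← h58]
    refine iSup₂_le ?_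
    rintro a ⟨haA, ha1⟩
    set Ga : Subgroup X := G ⊓ Subgroup.centralizer {a} with hGa
    have hAGa : A ≤ Subgroup.normalizer (Ga : Set X) := by
      apply le_normalizer_inf hAG
      refine le_trans ?_ Subgroup.le_normalizer
      intro b hb
      rw [Subgroup.mem_centralizer_singleton_iff]
      exact hAcomm b hb a haA
    by_cases hGaG : Ga = G
    swap
    · -- smaller `G`
      have hlt : Nat.card Ga < Nat.card G := by
        have hlt' : Ga < G := lt_of_le_of_ne inf_le_left hGaG
        have hss : (Ga : Set X) ⊂ (G : Set X) := hlt'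
        exact Set.ncard_lt_ncard hss (Set.toFinite _)
      have := ih (Nat.card A + Nat.card Ga) (by omega) X A Ga rfl hAab hAGa
        (Nat.Coprime.coprime_dvd_right (Subgroup.card_dvd_of_le inf_le_left) hcop)
      exact this.trans (genCent_mono A inf_le_left)
    · -- `a` centralizes `G`: pass to `A/⟨a⟩`
      rw [hGaG]
      set N : Subgroup X := Subgroup.zpowers a with hN
      have hNA : N ≤ A := (Subgroup.zpowers_le).mpr haA
      have hN1 : N ≠ ⊥ := by
        rw [hN, Ne, Subgroup.zpowers_eq_bot]
        exact ha1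
      have hcentN : ∀ x : X, x * a = a * x → x ∈ Subgroup.normalizer (N : Set X) := by
        intro x hx
        apply Subgroup.centralizer_le_normalizer
        rw [hN, Subgroup.zpowers_eq_closure, Subgroup.centralizer_closure,
          Subgroup.mem_centralizer_singleton_iff]
        exact hx
      have hAN : A ≤ Subgroup.normalizer (N : Set X) := fun b hb => hcentN b (hAcomm b hb a haA)
      have hGN : G ≤ Subgroup.normalizer (N : Set X) := by
        intro x hx
        apply hcentN
        have : x ∈ Ga := hGaG.symm ▸ hx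
        exact Subgroup.mem_centralizer_singleton_iff.mp this.2
      have hGNbot : ∀ x ∈ G, x ∈ N → x = 1 := by
        intro x hxG hxN
        have hd : Disjoint N G := Subgroup.disjoint_of_coprime_natCard
          (Nat.Coprime.coprime_dvd_left (Subgroup.card_dvd_of_le hNA) hcop)
        exact Subgroup.disjoint_def.mp hd hxN hxG
      have hcA := card_bar_mul hAN hNA
      have hltA : Nat.card (bar N A) < Nat.card A := by
        rw [← hcA]
        exact lt_mul_of_one_lt_right Nat.card_pos ((Subgroup.one_lt_card_iff_ne_bot N).mpr hN1)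
      have hleG : Nat.card (bar N G) ≤ Nat.card G := Nat.le_of_dvd Nat.card_pos (card_bar_dvd N G)
      have hAbar : IsMulCommutative ↥(bar N A) := by
        apply isMulCommutative_bar hAN
        have : ⁅A, A⁆ = ⊥ := by
          rw [Subgroup.commutator_eq_bot_iff_le_centralizer]
          intro x hx
          rw [Subgroup.mem_centralizer_iff]
          exact fun y hy => hAcomm y hy x hx
        rw [this]
        exact bot_le
      have hIH := ih (Nat.card (bar N A) + Nat.card (bar N G)) (by omega) (Sec N) (bar N A)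
        (bar N G) rfl hAbar (bar_le_normalizer hAG)
        (Nat.Coprime.of_dvd (card_bar_dvd N A) (card_bar_dvd N G) hcop)
      have hstep : genCent (bar N A) (bar N G) ≤ bar N (genCent A G) := by
        refine iSup₂_le ?_
        rintro Bb ⟨hBbA, ab, hab, hsup⟩
        set B : Subgroup X := unbar N Bb with hB
        have hBA : B ≤ A := by
          rw [← unbar_bar hAN hNA]
          exact unbar_mono hBbA
        have hbB : bar N B = Bb := bar_unbar Bb
        obtain ⟨a', ha'N, ha'A, rfl⟩ := mem_bar_iff.mp hab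
        have hBmem : B ∈ cycQuot A := by
          refine ⟨hBA, a', ha'A, le_antisymm (sup_le hBA ((Subgroup.zpowers_le).mpr ha'A)) ?_⟩
          apply le_of_bar_le_bar hAN ((le_unbar Bb).trans le_sup_left)
          rw [bar_sup (hBA.trans hAN) (((Subgroup.zpowers_le).mpr ha'A).trans hAN), hbB, ← hsup]
          apply sup_le_sup_left
          rw [Subgroup.zpowers_le]
          exact mk_mem_bar (Subgroup.mem_zpowers a') ha'N
        refine le_trans ?_ (bar_mono (le_iSup₂_of_le B hBmem le_rfl))
        rintro y ⟨hyG, hyC⟩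
        obtain ⟨x, hxN, hxG, rfl⟩ := mem_bar_iff.mp hyG
        refine mk_mem_bar (S := G ⊓ Subgroup.centralizer (B : Set X))
          (Subgroup.mem_inf.mpr ⟨hxG, ?_⟩) hxN
        rw [Subgroup.mem_centralizer_iff]
        intro b hb
        have hbN : b ∈ Subgroup.normalizer (N : Set X) := hAN (hBA hb)
        have hbb : secMk N ⟨b, hbN⟩ ∈ Bb := hbB ▸ mk_mem_bar hb hbN
        have h1 := Subgroup.mem_centralizer_iff.mp hyC _ hbb
        have h2 : secMk N (⟨x, hxN⟩ * ⟨b, hbN⟩ * ⟨x, hxN⟩⁻¹ * ⟨b, hbN⟩⁻¹) = 1 := by
          rw [map_mul, map_mul, map_mul, map_inv, map_inv, ← h1]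
          group
        have h3 : x * b * x⁻¹ * b⁻¹ ∈ N := secMk_eq_one_iff.mp h2
        have h4 : x * b * x⁻¹ * b⁻¹ ∈ G := by
          have h5 : b * x⁻¹ * b⁻¹ ∈ G :=
            (Subgroup.le_normalizer_iff.mp hAG) b (hBA hb) _ (G.inv_mem hxG)
          have h6 : x * b * x⁻¹ * b⁻¹ = x * (b * x⁻¹ * b⁻¹) := by group
          rw [h6]
          exact G.mul_mem hxG h5
        have h5 := hGNbot _ h4 h3
        have h6 : x * b = (x * b * x⁻¹ * b⁻¹) * (b * x) := by group
        rw [h6, h5, one_mul]
      intro x hx
      obtain ⟨t, ht, m, hm, rfl⟩ := (bar_le_bar_iff hGN).mp (hIH.trans hstep) x hx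
      have hm1 : m = 1 := by
        apply hGNbot m _ hm
        have : m = t⁻¹ * (t * m) := by group
        rw [this]
        exact G.mul_mem (G.inv_mem (genCent_le A G ht)) hx
      rw [hm1, mul_one]
      exact ht

theorem genCent_eq {X : Type u} [Group X] [Finite X] (A G : Subgroup X) (hAab : IsMulCommutative A)
    (hAG : A ≤ Subgroup.normalizer (G : Set X)) (hcop : (Nat.card A).Coprime (Nat.card G)) :
    genCent A G = G :=
  le_antisymm (genCent_le A G) (le_genCent_aux _ X A G rfl hAab hAG hcop)

end Cfsg.Agent.Lib.Helper62
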