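import Mathlib

/-!
# Redundant Sylow subgroups: general lemmas
-/

set_option autoImplicit false

namespace Cfsg.Agent.Lib.Helper62

variable {G : Type*} [Group G]

/-- some Sylow `p`-subgroup `Q` is redundant: every `p`-element lies in a Sylow `p`-subgroup other than `Q` -/
def HasRedundantSylow (p : ℕ) (G : Type*) [Group G] : Prop :=
  ∃ Q : Sylow p G, ∀ x : G, (∃ k : ℕ, orderOf x = p ^ k) → ∃ P : Sylow p G, P ≠ Q ∧ x ∈ P

theorem isPGroup_zpowers_of_orderOf {p : ℕ} {x : G} (hx : ∃ k : ℕ, orderOf x = p ^ k) :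
    IsPGroup p (Subgroup.zpowers x) := by
  obtain ⟨k, hk⟩ := hx
  rintro ⟨y, hy⟩
  obtain ⟨n, rfl⟩ := Subgroup.mem_zpowers_iff.1 hy
  refine ⟨k, Subtype.ext ?_⟩
  change (x ^ n) ^ p ^ k = 1
  rw [← zpow_natCast, ← zpow_mul, mul_comm, zpow_mul, zpow_natCast, ← hk, pow_orderOf_eq_one, one_zpow]

theorem exists_orderOf_of_mem_sylow {p : ℕ} [Fact p.Prime] (P : Sylow p G) {x : G} (hx : x ∈ P) :
    ∃ k : ℕ, orderOf x = p ^ k := by
  obtain ⟨k, hk⟩ := P.isPGroup' ⟨x, hx⟩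
  have h1 : x ^ p ^ k = 1 := congrArg Subtype.val hk
  obtain ⟨j, -, hj⟩ := (Nat.dvd_prime_pow Fact.out).1 (orderOf_dvd_of_pow_eq_one h1)
  exact ⟨j, hj⟩

/-- a `p`-element normalizing a Sylow `p`-subgroup lies in it -/
theorem mem_sylow_of_mem_normalizer {p : ℕ} [Fact p.Prime] (P : Sylow p G) {x : G}
    (hx : ∃ k : ℕ, orderOf x = p ^ k) (hN : x ∈ Subgroup.normalizer ((P : Subgroup G) : Set G)) :
    x ∈ P := by
  have h3 := (isPGroup_zpowers_of_orderOf hx).inf_normalizer_sylow P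
  have h4 : x ∈ Subgroup.zpowers x ⊓ (P : Subgroup G) := by
    rw [← h3]
    exact ⟨Subgroup.mem_zpowers x, hN⟩
  exact h4.2

theorem sylow_eq_of_le {p : ℕ} {P Q : Sylow p G} (h : (P : Subgroup G) ≤ Q) : P = Q :=
  Sylow.ext (P.is_maximal' Q.isPGroup' h).symm

/-- a Sylow subgroup which is cyclic is not redundant -/
theorem not_redundant_of_isCyclic {p : ℕ} [Fact p.Prime] (Q : Sylow p G)
    (hc : IsCyclic (Q : Subgroup G)) :
    ¬ ∀ x : G, (∃ k : ℕ, orderOf x = p ^ k) → ∃ P : Sylow p G, P ≠ Q ∧ x ∈ P := by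
  intro h
  obtain ⟨⟨x, hxQ⟩, hgen⟩ := hc.exists_generator
  obtain ⟨P, hPQ, hxP⟩ := h x (exists_orderOf_of_mem_sylow Q hxQ)
  apply hPQ
  symm
  apply sylow_eq_of_le
  intro y hy
  obtain ⟨n, hn⟩ := Subgroup.mem_zpowers_iff.1 (hgen ⟨y, hy⟩)
  have : y = x ^ n := (congrArg Subtype.val hn).symm
  rw [this]
  exact Subgroup.zpow_mem _ hxP n

section Quot

variable [Finite G] (Z : Subgroup G) [Z.Normal] (hZ : Z ≤ Subgroup.center G)

include hZ in
theorem mem_of_mk_mem_map {p : ℕ} [Fact p.Prime] (P : Sylow p G) {x : G}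
    (hx : ∃ k : ℕ, orderOf x = p ^ k)
    (hm : QuotientGroup.mk' Z x ∈ (P : Subgroup G).map (QuotientGroup.mk' Z)) : x ∈ P := by
  apply mem_sylow_of_mem_normalizer P hx
  have h1 : x ∈ ((P : Subgroup G).map (QuotientGroup.mk' Z)).comap (QuotientGroup.mk' Z) := hm
  rw [Subgroup.comap_map_eq, QuotientGroup.ker_mk'] at h1
  have h2 : (P : Subgroup G) ⊔ Z ≤ Subgroup.normalizer ((P : Subgroup G) : Set G) := by
    apply sup_le Subgroup.le_normalizer
    intro z hz
    have hzc := Subgroup.mem_center_iff.1 (hZ hz)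
    rw [Subgroup.mem_normalizer_iff]
    intro h
    have : z * h * z⁻¹ = h := by rw [← hzc h, mul_assoc, mul_inv_cancel, mul_one]
    rw [this]
  exact h2 h1

include hZ in
theorem mapSurjective_mk_injective (p : ℕ) [Fact p.Prime] {P P' : Sylow p G}
    (h : P.mapSurjective (QuotientGroup.mk'_surjective Z) =
      P'.mapSurjective (QuotientGroup.mk'_surjective Z)) : P = P' := by
  apply sylow_eq_of_le
  intro x hx
  apply mem_of_mk_mem_map Z hZ P' (exists_orderOf_of_mem_sylow P hx)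
  have h1 : (P : Subgroup G).map (QuotientGroup.mk' Z) = (P' : Subgroup G).map (QuotientGroup.mk' Z) :=
    congrArg (fun S : Sylow p (G ⧸ Z) => (S : Subgroup (G ⧸ Z))) h
  rw [← h1]
  exact Subgroup.mem_map_of_mem _ hx

include hZ in
/-- redundancy of Sylow subgroups passes to and from central quotients -/
theorem hasRedundantSylow_quotient_iff (p : ℕ) [Fact p.Prime] :
    HasRedundantSylow p (G ⧸ Z) ↔ HasRedundantSylow p G := by
  constructor
  · rintro ⟨Qb, hQb⟩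
    obtain ⟨Q, rfl⟩ := Sylow.mapSurjective_surjective (QuotientGroup.mk'_surjective Z) p Qb
    refine ⟨Q, fun x hx => ?_⟩
    have hx' : ∃ k : ℕ, orderOf (QuotientGroup.mk' Z x) = p ^ k := by
      obtain ⟨k, hk⟩ := hx
      have h1 : orderOf (QuotientGroup.mk' Z x) ∣ p ^ k := hk ▸ orderOf_map_dvd _ x
      obtain ⟨j, -, hj⟩ := (Nat.dvd_prime_pow Fact.out).1 h1
      exact ⟨j, hj⟩
    obtain ⟨Pb, hPb, hxP⟩ := hQb _ hx'
    obtain ⟨P, rfl⟩ := Sylow.mapSurjective_surjective (QuotientGroup.mk'_surjective Z) p Pb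
    refine ⟨P, fun h => hPb (by rw [h]), ?_⟩
    exact mem_of_mk_mem_map Z hZ P hx hxP
  · rintro ⟨Q, hQ⟩
    refine ⟨Q.mapSurjective (QuotientGroup.mk'_surjective Z), fun y hy => ?_⟩
    obtain ⟨Rb, hRb⟩ := (isPGroup_zpowers_of_orderOf hy).exists_le_sylow
    obtain ⟨R, rfl⟩ := Sylow.mapSurjective_surjective (QuotientGroup.mk'_surjective Z) p Rb
    have hyR : y ∈ (R : Subgroup G).map (QuotientGroup.mk' Z) := hRb (Subgroup.mem_zpowers y)
    obtain ⟨x, hxR, rfl⟩ := hyR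
    obtain ⟨P, hPQ, hxP⟩ := hQ x (exists_orderOf_of_mem_sylow R hxR)
    refine ⟨P.mapSurjective (QuotientGroup.mk'_surjective Z), fun h => hPQ ?_, ?_⟩
    · exact mapSurjective_mk_injective Z hZ p h
    · exact Subgroup.mem_map_of_mem _ hxP

end Quot

/-- to show that `x ∈ Q` lies in another Sylow subgroup it is enough to find an element of its
centralizer outside the normalizer of `Q` -/
theorem exists_sylow_ne_of_commute {p : ℕ} [Fact p.Prime] (Q : Sylow p G) {x g : G} (hx : x ∈ Q)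
    (hg : g * x = x * g) (hN : g ∉ Subgroup.normalizer ((Q : Subgroup G) : Set G)) :
    ∃ P : Sylow p G, P ≠ Q ∧ x ∈ P := by
  refine ⟨g • Q, fun h => hN (Sylow.smul_eq_iff_mem_normalizer.1 h), ?_⟩
  have h1 : x = MulAut.conj g • x := by
    change x = g * x * g⁻¹
    rw [hg, mul_assoc, mul_inv_cancel, mul_one]
  rw [h1]
  exact Subgroup.smul_mem_pointwise_smul x (MulAut.conj g) (Q : Subgroup G) hx

end Cfsg.Agent.Lib.Helper62
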