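import Mathlib
import Cfsg.Agent.Lib.Helper41.Dickson.Packages
import Cfsg.Agent.Lib.Helper41.SL2Basic
import Cfsg.Agent.Lib.Helper62.SL2Norm
import Cfsg.Agent.Lib.Helper62.Redundant

/-!
# Redundant Sylow subgroups of `SL₂(q)` and `PSL₂(q)`
-/

set_option autoImplicit false
set_option linter.style.haveILetI false
set_option linter.unusedSectionVars false

namespace Cfsg.Agent.Lib.Helper62

open Matrix Cfsg.Agent.Lib.Helper41.Dickson

section Char

variable {F : Type*} [Field F] [Fintype F] (p : ℕ) [Fact p.Prime] [CharP F p]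

/-- in the defining characteristic the Sylow subgroups of `PSL₂` are TI, hence not redundant -/
theorem not_redundant_PSL2_char :
    ¬ HasRedundantSylow p (Matrix.ProjectiveSpecialLinearGroup (Fin 2) F) := by
  classical
  letI := pslAct F (AlgebraicClosure F)
  rintro ⟨Q, hQ⟩
  obtain ⟨x, -, hQx, -⟩ := borel_geom (F := F) (L := AlgebraicClosure F) p Q
  have hcard := (borel_package p Q).2.1
  have hnt : Nontrivial (Q : Subgroup (Matrix.ProjectiveSpecialLinearGroup (Fin 2) F)) := by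
    rw [← Finite.one_lt_card_iff_nontrivial]
    have : Nat.card (Q : Subgroup (Matrix.ProjectiveSpecialLinearGroup (Fin 2) F)) = Fintype.card F := hcard
    rw [this]
    exact Fintype.one_lt_card
  obtain ⟨⟨u, hu⟩, hu1⟩ := exists_ne (1 : (Q : Subgroup (Matrix.ProjectiveSpecialLinearGroup (Fin 2) F)))
  obtain ⟨P, hPQ, huP⟩ := hQ u (exists_orderOf_of_mem_sylow Q hu)
  obtain ⟨y, -, hPy, -⟩ := borel_geom (F := F) (L := AlgebraicClosure F) p P
  have h1 : u ∈ (psl_mob (F := F) (L := AlgebraicClosure F)).Q x := by rw [← hQx]; exact hu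
  have h2 : u ∈ (psl_mob (F := F) (L := AlgebraicClosure F)).Q y := by rw [← hPy]; exact huP
  have hxy : x = y := by
    by_contra h
    exact hu1 (Subtype.ext (h1.2.eq_one h1.1 h2.1 h))
  apply hPQ
  apply Sylow.ext
  rw [hPy, hQx, hxy]

end Char

section Aux

theorem conj_pow_of_central {G : Type*} [Group G] {g x w : G} (hw : ∀ y : G, w * y = y * w)
    (h : g * x * g⁻¹ = w * x) (n : ℕ) : g ^ n * x * (g ^ n)⁻¹ = w ^ n * x := by
  induction n with
  | zero => simp
  | succ n ih =>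
    calc g ^ (n + 1) * x * (g ^ (n + 1))⁻¹ = g * (g ^ n * x * (g ^ n)⁻¹) * g⁻¹ := by
          rw [pow_succ']; group
      _ = g * (w ^ n * x) * g⁻¹ := by rw [ih]
      _ = w ^ n * (g * x * g⁻¹) := by
          have : g * w ^ n = w ^ n * g := ((Commute.pow_left (hw g) n).eq).symm
          rw [← mul_assoc, this]; group
      _ = w ^ (n + 1) * x := by rw [h, pow_succ, mul_assoc]

theorem eq_one_of_pow_odd_of_sq {G : Type*} [Group G] {w : G} {r : ℕ} (hr : Odd r) (h1 : w ^ r = 1)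
    (h2 : w * w = 1) : w = 1 := by
  obtain ⟨m, rfl⟩ := hr
  rw [pow_succ, pow_mul, pow_two, h2, one_pow, one_mul] at h1
  exact h1

theorem eq_one_of_pow_odd_of_pow_two {G : Type*} [Group G] {w : G} {r j : ℕ} (hr : Odd r)
    (h1 : w ^ r = 1) (h2 : w ^ 2 ^ j = 1) : w = 1 := by
  have hc : Nat.Coprime r (2 ^ j) := Nat.Coprime.pow_right j (Nat.coprime_two_right.2 hr)
  have := pow_gcd_eq_one.2 ⟨h1, h2⟩
  rwa [hc, pow_one] at this

theorem two_mul_eq_two_pow {q k : ℕ} (hq : Odd q) (hq3 : 3 ≤ q) (h2k : 2 ∣ k)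
    (hk : 2 * k = q - 1 ∨ 2 * k = q + 1) (h : (∃ j : ℕ, q + 1 = 2 ^ j) ∨ ∃ j : ℕ, q = 2 ^ j + 1) :
    ∃ j : ℕ, 2 * k = 2 ^ j := by
  obtain ⟨u, rfl⟩ := h2k
  rcases hk with hk | hk <;> rcases h with ⟨j, hj⟩ | ⟨j, hj⟩
  · exfalso
    rcases j with _ | _ | j
    · simp at hj; omega
    · simp at hj; omega
    · rw [pow_add] at hj
      omega
  · exact ⟨j, by omega⟩
  · exact ⟨j, by omega⟩
  · rcases j with _ | _ | j
    · simp at hj; omega
    · simp at hj
      exact ⟨2, by omega⟩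
    · exfalso
      rw [pow_add] at hj
      omega

end Aux

section Two

variable {F : Type*} [Field F] [Fintype F]

theorem sl2_mem_center_iff' (x : SpecialLinearGroup (Fin 2) F) :
    x ∈ Subgroup.center (SpecialLinearGroup (Fin 2) F) ↔ x = 1 ∨ x = -1 := by
  rw [Cfsg.Agent.Lib.Helper41.sl2_mem_center_iff]
  constructor
  · rintro (h | h)
    · left; exact Subtype.ext h
    · right; exact Subtype.ext h
  · rintro (rfl | rfl)
    · left; rfl
    · right; rfl

theorem sl2_neg_one_ne_one' (h2 : (2 : F) ≠ 0) : (-1 : SpecialLinearGroup (Fin 2) F) ≠ 1 := by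
  intro h
  have := congrArg (fun x : SpecialLinearGroup (Fin 2) F => (x : Matrix (Fin 2) (Fin 2) F) 0 0) h
  simp at this
  apply h2
  linear_combination -this

theorem mul_self_of_mem_center {x : SpecialLinearGroup (Fin 2) F}
    (hx : x ∈ Subgroup.center (SpecialLinearGroup (Fin 2) F)) : x * x = 1 := by
  rcases (sl2_mem_center_iff' x).1 hx with rfl | rfl <;> simp

/-- the image in `PSL₂` of a 2-element of order at least 4 is semisimple -/
theorem mk_pow_char_ne_one (l : ℕ) [Fact l.Prime] [CharP F l] (h2 : (2 : F) ≠ 0)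
    (x : SpecialLinearGroup (Fin 2) F) (hx : ∃ k : ℕ, orderOf x = 2 ^ k) (hx2 : x * x ≠ 1) :
    QuotientGroup.mk' (Subgroup.center (SpecialLinearGroup (Fin 2) F)) x ≠ 1 ∧
    (QuotientGroup.mk' (Subgroup.center (SpecialLinearGroup (Fin 2) F)) x) ^ l ≠ 1 ∧
    2 ∣ orderOf (QuotientGroup.mk' (Subgroup.center (SpecialLinearGroup (Fin 2) F)) x) := by
  have hc1 : QuotientGroup.mk' (Subgroup.center (SpecialLinearGroup (Fin 2) F)) x ≠ 1 := by
    intro h
    rw [QuotientGroup.mk'_apply, QuotientGroup.eq_one_iff] at h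
    exact hx2 (mul_self_of_mem_center h)
  obtain ⟨k, hk⟩ := hx
  have hd : orderOf (QuotientGroup.mk' (Subgroup.center (SpecialLinearGroup (Fin 2) F)) x) ∣ 2 ^ k :=
    hk ▸ orderOf_map_dvd _ x
  have hl2 : l ≠ 2 := by
    rintro rfl
    apply h2
    exact_mod_cast CharP.cast_eq_zero F 2
  refine ⟨hc1, ?_, ?_⟩
  · intro h
    have h1 := orderOf_dvd_of_pow_eq_one h
    have hcop : Nat.Coprime l (2 ^ k) :=
      Nat.Coprime.pow_right k ((Nat.coprime_primes Fact.out Nat.prime_two).2 hl2)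
    have h3 := Nat.dvd_gcd h1 hd
    rw [hcop, Nat.dvd_one, orderOf_eq_one_iff] at h3
    exact hc1 h3
  · obtain ⟨j, -, hj⟩ := (Nat.dvd_prime_pow Nat.prime_two).1 hd
    rw [hj]
    rcases j with _ | j
    · rw [pow_zero, orderOf_eq_one_iff] at hj
      exact absurd hj hc1
    · exact Dvd.intro_left _ rfl

theorem gcd_two_card_sub_one (hodd : Odd (Fintype.card F)) : Nat.gcd 2 (Fintype.card F - 1) = 2 := by
  obtain ⟨m, hm⟩ := hodd
  rw [hm]
  simp

/-- if `q ± 1` are not powers of 2, a 2-element of order at least 4 commutes with a nontrivial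
element of odd order -/
theorem exists_odd_commute (l : ℕ) [Fact l.Prime] [CharP F l] (hodd : Odd (Fintype.card F))
    (hnp : ¬ ∃ j : ℕ, Fintype.card F + 1 = 2 ^ j) (hnm : ¬ ∃ j : ℕ, Fintype.card F = 2 ^ j + 1)
    (x : SpecialLinearGroup (Fin 2) F) (hx : ∃ k : ℕ, orderOf x = 2 ^ k) (hx2 : x * x ≠ 1) :
    ∃ (g : SpecialLinearGroup (Fin 2) F) (r : ℕ), Odd r ∧ g ^ r = 1 ∧ g ≠ 1 ∧ g * x = x * g := by
  have h2 := Cfsg.Agent.Lib.Helper5.two_ne_zero_of_odd_card hodd
  obtain ⟨hc1, hcl, -⟩ := mk_pow_char_ne_one l h2 x hx hx2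
  obtain ⟨π, hπ⟩ : ∃ π, π = QuotientGroup.mk' (Subgroup.center (SpecialLinearGroup (Fin 2) F)) :=
    ⟨_, rfl⟩
  rw [← hπ] at hc1 hcl
  have hker : ∀ y, π y = 1 → y ∈ Subgroup.center (SpecialLinearGroup (Fin 2) F) := by
    intro y hy
    rw [hπ, QuotientGroup.mk'_apply, QuotientGroup.eq_one_iff] at hy
    exact hy
  obtain ⟨N, k, t, hk, -, -, hot, hct, -⟩ := torus_package l (π x) hcl
  rw [gcd_two_card_sub_one hodd] at hk
  have hq1 : 1 ≤ Fintype.card F := Fintype.card_pos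
  have hk2 : ¬ ∃ j : ℕ, k = 2 ^ j := by
    rintro ⟨j, rfl⟩
    rcases hk with hk | hk
    · exact hnm ⟨j + 1, by rw [pow_succ]; omega⟩
    · exact hnp ⟨j + 1, by rw [pow_succ]; omega⟩
  obtain ⟨r, hr, hrk, hrodd⟩ := (Nat.eq_two_pow_or_exists_odd_prime_and_dvd k).resolve_left hk2
  have hk0 : k ≠ 0 := by
    rintro rfl
    rcases hk with hk | hk
    · apply hc1
      rw [← orderOf_eq_one_iff]
      have : Fintype.card F = 1 := by omega
      have h3 := Fintype.one_lt_card (α := F)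
      omega
    · omega
  obtain ⟨s, hs⟩ : ∃ s, s = t ^ (k / r) := ⟨_, rfl⟩
  have hos : orderOf s = r := by
    rw [hs, ← hot]
    exact orderOf_pow_orderOf_div (by rw [hot]; exact hk0) (by rw [hot]; exact hrk)
  have hs1 : s ≠ 1 := by
    intro h
    rw [h, orderOf_one] at hos
    exact hr.one_lt.ne hos
  obtain ⟨g0, hg0⟩ : ∃ g0, π g0 = s := by
    rw [hπ]; exact QuotientGroup.mk'_surjective _ s
  have hsr : s ^ r = 1 := by rw [← hos]; exact pow_orderOf_eq_one s
  have hg0r : g0 ^ r * g0 ^ r = 1 := by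
    apply mul_self_of_mem_center
    apply hker
    rw [map_pow, hg0, hsr]
  obtain ⟨m, hm⟩ := hrodd
  have hgr : (g0 ^ (r + 1)) ^ r = 1 := by
    rw [← pow_mul, mul_comm, pow_mul]
    have : r + 1 = 2 * (m + 1) := by omega
    rw [this, pow_mul, pow_two, hg0r, one_pow]
  have hπg : π (g0 ^ (r + 1)) = s := by
    rw [map_pow, hg0, pow_succ, hsr, one_mul]
  refine ⟨g0 ^ (r + 1), r, ⟨m, hm⟩, hgr, ?_, ?_⟩
  · intro h
    rw [h, map_one] at hπg
    exact hs1 hπg.symm
  · obtain ⟨g, hg⟩ : ∃ g, g = g0 ^ (r + 1) := ⟨_, rfl⟩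
    rw [← hg] at hgr hπg ⊢
    obtain ⟨w, hw⟩ : ∃ w, w = g * x * g⁻¹ * x⁻¹ := ⟨_, rfl⟩
    have hwc : w ∈ Subgroup.center (SpecialLinearGroup (Fin 2) F) := by
      apply hker
      rw [hw, map_mul, map_mul, map_mul, map_inv, map_inv, hπg]
      obtain ⟨a, ha⟩ := Subgroup.mem_zpowers_iff.1 hct
      rw [← ha, hs]
      have : t ^ (k / r) * t ^ a = t ^ a * t ^ (k / r) := by
        rw [← zpow_natCast, ← _root_.zpow_add, ← _root_.zpow_add, add_comm]
      rw [this]
      group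
    have hwx : g * x * g⁻¹ = w * x := by rw [hw]; group
    have h3 := conj_pow_of_central (fun y => ((Subgroup.mem_center_iff.1 hwc) y).symm) hwx r
    rw [hgr] at h3
    have h4 : w ^ r = 1 := by
      have : w ^ r * x = 1 * x := by rw [← h3]; group
      exact mul_right_cancel this
    have hw1 := eq_one_of_pow_odd_of_sq ⟨m, hm⟩ h4 (mul_self_of_mem_center hwc)
    rw [hw1, one_mul] at hwx
    calc g * x = g * x * g⁻¹ * g := by group
      _ = x * g := by rw [hwx]

/-- a nontrivial element of odd order commuting with an element of order at least 4 of a Sylow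
2-subgroup `Q` of `SL₂(q)` does not normalize `Q` -/
theorem not_mem_normalizer_of_odd (h2 : (2 : F) ≠ 0) (Q : Sylow 2 (SpecialLinearGroup (Fin 2) F))
    {k : ℕ} (hk : 1 ≤ k)
    (e : (Q : Subgroup (SpecialLinearGroup (Fin 2) F)) ≃* QuaternionGroup (2 ^ k))
    {g x : SpecialLinearGroup (Fin 2) F} {r : ℕ} (hr : Odd r) (hg : g ^ r = 1) (hg1 : g ≠ 1)
    (hx : x ∈ Q) (hx2 : x * x ≠ 1) (hc : g * x = x * g) :
    g ∉ Subgroup.normalizer ((Q : Subgroup (SpecialLinearGroup (Fin 2) F)) :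
      Set (SpecialLinearGroup (Fin 2) F)) := by
  intro hgN
  obtain rfl | hk2 : k = 1 ∨ 2 ≤ k := by omega
  · have e' : (Q : Subgroup (SpecialLinearGroup (Fin 2) F)) ≃* QuaternionGroup 2 := e
    by_cases hgC : g ∈ Subgroup.centralizer ((Q : Subgroup (SpecialLinearGroup (Fin 2) F)) :
        Set (SpecialLinearGroup (Fin 2) F))
    · rcases (centralizer_quat h2 _ 2 1 rfl e').1 g hgC with h | h
      · exact hg1 h
      · apply hg1
        apply eq_one_of_pow_odd_of_sq hr hg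
        rw [h]; simp
    · have := (Cfsg.Agent.Lib.Helper20.Fus.q8_no_fixed e' hgN hgC hr hg hx hx2).1
      apply this
      rw [hc]; group
  · obtain ⟨m, rfl⟩ : ∃ m, k = m + 2 := ⟨k - 2, by omega⟩
    rw [normalizer_quat_eq h2 Q m e] at hgN
    obtain ⟨j, hj⟩ := Q.isPGroup' ⟨g, hgN⟩
    exact hg1 (eq_one_of_pow_odd_of_pow_two hr hg (congrArg Subtype.val hj))

/-- `SL₂(q)`, `q` odd with `q ± 1` not powers of 2, has redundant Sylow 2-subgroups -/
theorem redundant_SL2_two (l : ℕ) [Fact l.Prime] [CharP F l] (hodd : Odd (Fintype.card F))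
    (hnp : ¬ ∃ j : ℕ, Fintype.card F + 1 = 2 ^ j) (hnm : ¬ ∃ j : ℕ, Fintype.card F = 2 ^ j + 1) :
    HasRedundantSylow 2 (SpecialLinearGroup (Fin 2) F) := by
  have h2 := Cfsg.Agent.Lib.Helper5.two_ne_zero_of_odd_card hodd
  obtain ⟨Q⟩ : Nonempty (Sylow 2 (SpecialLinearGroup (Fin 2) F)) := inferInstance
  obtain ⟨k, hk, ⟨e⟩⟩ := Cfsg.Agent.Lib.Helper5.sylow_two_SL2_quaternion hodd Q
  have hne : NeZero (2 ^ k) := ⟨by positivity⟩
  refine ⟨Q, fun x hx => ?_⟩
  by_cases hxQ : x ∈ Q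
  swap
  · obtain ⟨P, hP⟩ := (isPGroup_zpowers_of_orderOf hx).exists_le_sylow
    have hxP : x ∈ P := hP (Subgroup.mem_zpowers x)
    exact ⟨P, fun h => hxQ (h ▸ hxP), hxP⟩
  by_cases hx2 : x * x = 1
  · -- `x` is central
    obtain ⟨i, hi⟩ : ∃ i : SpecialLinearGroup (Fin 2) F,
        i = (e.symm (QuaternionGroup.a ((2 ^ (k - 1) : ℕ) : ZMod (2 * 2 ^ k))) :
          (Q : Subgroup (SpecialLinearGroup (Fin 2) F))) := ⟨_, rfl⟩
    have hkk : 2 ^ (k - 1) + 2 ^ (k - 1) = 2 ^ k := by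
      obtain ⟨m, rfl⟩ : ∃ m, k = m + 1 := ⟨k - 1, by omega⟩
      simp only [Nat.add_sub_cancel]
      ring
    obtain ⟨r1, -, -⟩ := quat_pair h2 _ (2 ^ k) (2 ^ (k - 1)) hkk e hi rfl
    have hiQ : i ∈ Q := by rw [hi]; exact (e.symm _).2
    have hi2 : i * i ≠ 1 := by
      intro h
      have h0 : ((i * i : SpecialLinearGroup (Fin 2) F) : Matrix (Fin 2) (Fin 2) F) =
          (i : Matrix (Fin 2) (Fin 2) F) * i := rfl
      rw [h, r1] at h0
      apply sl2_neg_one_ne_one' h2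
      exact Subtype.ext h0.symm
    obtain ⟨g, r, hr, hgr, hg1, hgi⟩ := exists_odd_commute l hodd hnp hnm i
      (exists_orderOf_of_mem_sylow Q hiQ) hi2
    have hgN := not_mem_normalizer_of_odd h2 Q hk e hr hgr hg1 hiQ hi2 hgi
    have hxc : x ∈ Subgroup.center (SpecialLinearGroup (Fin 2) F) := by
      rw [sl2_mem_center_iff']
      by_cases hx1 : x = 1
      · exact Or.inl hx1
      · right
        exact Subtype.ext (Cfsg.Agent.Lib.Helper11.sl2_eq_neg_one_of_sq h2 x hx2 hx1)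
    exact exists_sylow_ne_of_commute Q hxQ (Subgroup.mem_center_iff.1 hxc g) hgN
  · obtain ⟨g, r, hr, hgr, hg1, hgx⟩ := exists_odd_commute l hodd hnp hnm x hx hx2
    exact exists_sylow_ne_of_commute Q hxQ hgx
      (not_mem_normalizer_of_odd h2 Q hk e hr hgr hg1 hxQ hx2 hgx)

/-- `SL₂(q)`, `q = 2ᵏ ± 1`, has no redundant Sylow 2-subgroup -/
theorem not_redundant_SL2_two (l : ℕ) [Fact l.Prime] [CharP F l] (hodd : Odd (Fintype.card F))
    (h : (∃ j : ℕ, Fintype.card F + 1 = 2 ^ j) ∨ ∃ j : ℕ, Fintype.card F = 2 ^ j + 1) :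
    ¬ HasRedundantSylow 2 (SpecialLinearGroup (Fin 2) F) := by
  have h2 := Cfsg.Agent.Lib.Helper5.two_ne_zero_of_odd_card hodd
  rintro ⟨Q, hQ⟩
  obtain ⟨k, hk, ⟨e⟩⟩ := Cfsg.Agent.Lib.Helper5.sylow_two_SL2_quaternion hodd Q
  have hne : NeZero (2 ^ k) := ⟨by positivity⟩
  obtain ⟨x, hx⟩ : ∃ x : SpecialLinearGroup (Fin 2) F,
      x = (e.symm (QuaternionGroup.a 1) : (Q : Subgroup (SpecialLinearGroup (Fin 2) F))) := ⟨_, rfl⟩
  have hox : orderOf x = 2 * 2 ^ k := by
    rw [hx, Subgroup.orderOf_coe, MulEquiv.orderOf_eq, QuaternionGroup.orderOf_a_one]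
  have hox' : ∃ j : ℕ, orderOf x = 2 ^ j := ⟨k + 1, by rw [hox, pow_succ, mul_comm]⟩
  have hx2 : x * x ≠ 1 := by
    intro hc
    have h1 := orderOf_dvd_of_pow_eq_one (by rw [pow_two]; exact hc : x ^ 2 = 1)
    rw [hox] at h1
    have h3 := Nat.le_of_dvd (by norm_num) h1
    have h4 : 2 ≤ 2 ^ k := by
      calc 2 = 2 ^ 1 := by norm_num
        _ ≤ 2 ^ k := Nat.pow_le_pow_right (by norm_num) hk
    omega
  obtain ⟨P, hPQ, hxP⟩ := hQ x hox'
  have hxQ : x ∈ Q := by rw [hx]; exact (e.symm _).2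
  obtain ⟨hc1, hcl, hc2⟩ := mk_pow_char_ne_one l h2 x hox' hx2
  obtain ⟨π, hπ⟩ : ∃ π, π = QuotientGroup.mk' (Subgroup.center (SpecialLinearGroup (Fin 2) F)) :=
    ⟨_, rfl⟩
  obtain ⟨N, k', t, hk', ⟨eN⟩, -, hot, hct, hN⟩ := torus_package l _ hcl
  rw [gcd_two_card_sub_one hodd] at hk'
  have hq3 : 3 ≤ Fintype.card F := by
    have h3 := Fintype.one_lt_card (α := F)
    obtain ⟨m, hm⟩ := hodd
    omega
  have h2k : 2 ∣ k' := by
    rw [← hot]
    exact hc2.trans (orderOf_dvd_of_mem_zpowers hct)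
  obtain ⟨j, hj⟩ := two_mul_eq_two_pow hodd hq3 h2k hk' h
  have hNp : IsPGroup 2 N := by
    apply IsPGroup.of_card (n := j)
    rw [Nat.card_congr eN.toEquiv, DihedralGroup.nat_card, hj]
  have hcardQ : Nat.card (Q : Subgroup (SpecialLinearGroup (Fin 2) F)) = 4 * 2 ^ k := by
    rw [Nat.card_congr e.toEquiv, Nat.card_eq_fintype_card, QuaternionGroup.card]
  -- every Sylow 2-subgroup containing `x` maps into `N`
  have key : ∀ R : Sylow 2 (SpecialLinearGroup (Fin 2) F), x ∈ R →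
      (R.mapSurjective (QuotientGroup.mk'_surjective
        (Subgroup.center (SpecialLinearGroup (Fin 2) F))) : Subgroup _) = N := by
    intro R hxR
    have hcardR : Nat.card (R : Subgroup (SpecialLinearGroup (Fin 2) F)) = 4 * 2 ^ k := by
      rw [← hcardQ, Sylow.card_eq_multiplicity, Sylow.card_eq_multiplicity]
    have hle : Subgroup.zpowers x ≤ (R : Subgroup (SpecialLinearGroup (Fin 2) F)) := by
      rw [Subgroup.zpowers_le]; exact hxR
    have hidx : ((Subgroup.zpowers x).subgroupOf (R : Subgroup (SpecialLinearGroup (Fin 2) F))).index = 2 := by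
      have h5 := ((Subgroup.zpowers x).subgroupOf
        (R : Subgroup (SpecialLinearGroup (Fin 2) F))).card_mul_index
      rw [Nat.card_congr (Subgroup.subgroupOfEquivOfLe hle).toEquiv, Nat.card_zpowers, hox, hcardR] at h5
      have hpos : 0 < 2 * 2 ^ k := by positivity
      have : 2 * 2 ^ k * ((Subgroup.zpowers x).subgroupOf
          (R : Subgroup (SpecialLinearGroup (Fin 2) F))).index = 2 * 2 ^ k * 2 := by rw [h5]; ring
      exact Nat.eq_of_mul_eq_mul_left hpos this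
    have hnorm := Subgroup.normal_of_index_eq_two hidx
    have hRN : (R : Subgroup (SpecialLinearGroup (Fin 2) F)).map (QuotientGroup.mk'
        (Subgroup.center (SpecialLinearGroup (Fin 2) F))) ≤ N := by
      rintro _ ⟨g, hg, rfl⟩
      apply hN _ _ hct hc1
      have h6 := hnorm.conj_mem ⟨x, hxR⟩ (by
        rw [Subgroup.mem_subgroupOf]; exact Subgroup.mem_zpowers x) ⟨g, hg⟩
      rw [Subgroup.mem_subgroupOf] at h6
      have h7 : g * x * g⁻¹ ∈ Subgroup.zpowers x := h6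
      obtain ⟨a, ha⟩ := Subgroup.mem_zpowers_iff.1 h7
      rw [← map_inv, ← map_mul, ← map_mul, ← ha, map_zpow]
      exact Subgroup.zpow_mem _ hct a
    exact ((R.mapSurjective (QuotientGroup.mk'_surjective
        (Subgroup.center (SpecialLinearGroup (Fin 2) F)))).is_maximal' hNp hRN).symm
  apply hPQ
  apply mapSurjective_mk_injective (Subgroup.center (SpecialLinearGroup (Fin 2) F)) le_rfl 2
  apply Sylow.ext
  rw [key P hxP, key Q hxQ]

theorem redundant_SL2_iff (p : ℕ) [Fact p.Prime] :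
    HasRedundantSylow p (SpecialLinearGroup (Fin 2) F) ↔
      (p = 2 ∧ (¬ ∃ k : ℕ, Fintype.card F + 1 = 2 ^ k) ∧ (¬ ∃ k : ℕ, Fintype.card F = 2 ^ k) ∧
        ¬ ∃ k : ℕ, Fintype.card F = 2 ^ k + 1) := by
  obtain ⟨l, hl⟩ := CharP.exists F
  obtain ⟨n, hlp, hn⟩ := FiniteField.card F l
  have : Fact l.Prime := ⟨hlp⟩
  have hoddq : l ≠ 2 → Odd (Fintype.card F) := by
    intro h
    rw [hn]
    exact Odd.pow (hlp.odd_of_ne_two h)
  constructor
  · intro hR
    by_cases hpl : p = l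
    · subst hpl
      exact absurd ((hasRedundantSylow_quotient_iff
        (Subgroup.center (SpecialLinearGroup (Fin 2) F)) le_rfl p).2 hR) (not_redundant_PSL2_char p)
    · by_cases hp2 : p = 2
      · subst hp2
        have hodd := hoddq (Ne.symm hpl)
        refine ⟨rfl, ?_, ?_, ?_⟩
        · intro h
          exact not_redundant_SL2_two l hodd (Or.inl h) hR
        · rintro ⟨k, hk⟩
          rw [hk] at hodd
          rcases k with _ | k
          · have h3 := Fintype.one_lt_card (α := F)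
            rw [hk] at h3
            simp at h3
          · rw [pow_succ] at hodd
            exact (Nat.not_odd_iff_even.2 (even_two.mul_left _)) hodd
        · intro h
          exact not_redundant_SL2_two l hodd (Or.inr h) hR
      · obtain ⟨Q, hQ⟩ := hR
        exact absurd hQ (not_redundant_of_isCyclic Q
          (Cfsg.Agent.Lib.Helper5.sylow_SL2_isCyclic l p hp2 hpl Q))
  · rintro ⟨rfl, h1, h2, h3⟩
    have hl2 : l ≠ 2 := by
      rintro rfl
      exact h2 ⟨n, hn⟩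
    exact redundant_SL2_two l (hoddq hl2) h1 h3

theorem redundant_PSL2_iff (p : ℕ) [Fact p.Prime] :
    HasRedundantSylow p (Matrix.ProjectiveSpecialLinearGroup (Fin 2) F) ↔
      (p = 2 ∧ (¬ ∃ k : ℕ, Fintype.card F + 1 = 2 ^ k) ∧ (¬ ∃ k : ℕ, Fintype.card F = 2 ^ k) ∧
        ¬ ∃ k : ℕ, Fintype.card F = 2 ^ k + 1) :=
  (hasRedundantSylow_quotient_iff
    (Subgroup.center (SpecialLinearGroup (Fin 2) F)) le_rfl p).trans (redundant_SL2_iff p)

end Two

end Cfsg.Agent.Lib.Helper62
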